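import Cfsg.Agent.Lib.BTBlock.Sub.Facts

/-!
# Subnormal blocks commuting modulo `O_p(G)`
-/

set_option autoImplicit false

namespace Cfsg.Agent.Lib.BTBlock.Sub

open Subgroup Cfsg
open scoped commutatorElement

universe u

variable {G : Type u} [Group G] {p : ℕ}

/-- The elements acting trivially on the section `W / Z`. -/
def trivSub (W Z : Subgroup G) : Subgroup G where
  carrier := {x | x ∈ normalizer (W : Set G) ⊓ normalizer (Z : Set G) ∧ TrivOn W Z x}
  one_mem' := ⟨one_mem _, fun w _ => by simp [Z.one_mem]⟩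
  mul_mem' := fun {a b} ha hb => ⟨mul_mem ha.1 hb.1, fun w hw => by
    have h1 : b * w * b⁻¹ ∈ W := (mem_normalizer_iff.mp hb.1.1 w).mp hw
    have h2 := Z.mul_mem (ha.2 _ h1) (hb.2 w hw)
    convert h2 using 1
    group⟩
  inv_mem' := fun {a} ha => ⟨inv_mem ha.1, fun w hw => by
    have h1 : a⁻¹ * w * a⁻¹⁻¹ ∈ W := (mem_normalizer_iff.mp (inv_mem ha.1.1) w).mp hw
    have h2 := Z.inv_mem (ha.2 _ h1)
    convert h2 using 1
    group⟩

theorem mem_trivSub {W Z : Subgroup G} {x : G} :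
    x ∈ trivSub W Z ↔ x ∈ normalizer (W : Set G) ⊓ normalizer (Z : Set G) ∧ TrivOn W Z x := Iff.rfl

variable [Finite G] [Fact p.Prime] {E F : Subgroup G}

/-- Every element has a power of order prime to `p` with `p`-power exponent. -/
theorem exists_coprime_pow (p : ℕ) [Fact p.Prime] (x : G) :
    ∃ k : ℕ, (orderOf (x ^ p ^ k)).Coprime p := by
  have hp : p.Prime := Fact.out
  have h0 : orderOf x ≠ 0 := (orderOf_pos x).ne'
  refine ⟨(orderOf x).factorization p, ?_⟩
  rw [orderOf_pow' x (pow_ne_zero _ hp.ne_zero),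
    Nat.gcd_eq_right (Nat.ordProj_dvd (orderOf x) p)]
  exact (Nat.coprime_ordCompl hp h0).symm

theorem isPGroup_bQ (E : Subgroup G) : IsPGroup p (bQ p E) := Amalgam.isPGroup_pCoreOf E

theorem bQ_eq (hEs : E.IsSubnormal) : bQ p E = E ⊓ pCore p G :=
  le_antisymm (le_inf (Amalgam.pCoreOf_le p E) (CharTwo.map_pCore_of_subnormal hEs))
    (inf_pCore_le E)

theorem IsBlock.commutator_mem_bQ (hE : IsBlock p E) {e u : G} (he : e ∈ E) (hu : u ∈ pCore p G) :
    ⁅e, u⁆ ∈ bQ p E ∧ ⁅u, e⁆ ∈ bQ p E := by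
  have h : ⁅u, e⁆ ∈ bQ p E := by
    refine inf_pCore_le E ⟨?_, ?_⟩
    · rw [commutatorElement_def]
      exact E.mul_mem ((mem_normalizer_iff.mp (hE.pCore_le_normalizer hu) e).mp he) (E.inv_mem he)
    · have h1 : e * u⁻¹ * e⁻¹ ∈ pCore p G :=
        (inferInstance : (pCore p G).Normal).conj_mem _ (inv_mem hu) e
      rw [commutatorElement_def, mul_assoc, mul_assoc, ← mul_assoc e]
      exact mul_mem hu h1
  exact ⟨by rw [← commutatorElement_inv]; exact inv_mem h, h⟩

theorem IsBlock.eq_closure (hE : IsBlock p E) :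
    closure {g : G | g ∈ E ∧ (orderOf g).Coprime p} = E := by
  rw [← pResidualOf_eq_closure]; exact hE.residual

/-- Whatever maps a block into `E O_p(G)` maps it into `E`. -/
theorem IsBlock.mem_normalizer_of_map_le (hE : IsBlock p E) {g : G}
    (h : E.map (MulAut.conj g).toMonoidHom ≤ E ⊔ pCore p G) : g ∈ normalizer (E : Set G) := by
  refine Amalgam.mem_normalizer_of_map_conj_eq
    (eq_of_le_of_card_ge ?_ (le_of_eq (Subgroup.card_map_of_injective (MulAut.conj g).injective).symm))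
  conv_lhs => rw [← (hE.conj g).residual, pResidualOf_eq_closure]
  rw [closure_le]
  rintro x ⟨hx, hxo⟩
  have h1 : x ∈ pResidualOf p (E ⊔ pCore p G) := by
    rw [pResidualOf_eq_closure]; exact subset_closure ⟨h hx, hxo⟩
  rwa [pResidualOf_sup_pCore hE.choose_spec] at h1

/-- Blocks with the same image modulo `O_p(G)` are equal. -/
theorem IsBlock.eq_of_le_sup (hE : IsBlock p E) (hF : IsBlock p F) (h : F ≤ E ⊔ pCore p G)
    (h' : E ≤ F ⊔ pCore p G) : E = F := by
  rw [← pResidualOf_sup_pCore hE.choose_spec, ← pResidualOf_sup_pCore hF.choose_spec,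
    le_antisymm (sup_le h' le_sup_right) (sup_le h le_sup_right)]

theorem IsBlock.le_normalizer_of_commutator_le (hE : IsBlock p E) (h : ⁅E, F⁆ ≤ pCore p G) :
    F ≤ normalizer (E : Set G) := by
  intro f hf
  refine hE.mem_normalizer_of_map_le ?_
  rintro _ ⟨e, he, rfl⟩
  have h1 : ⁅e, f⁆⁻¹ ∈ pCore p G := inv_mem (h (commutator_mem_commutator he hf))
  have h2 := mul_mem (mem_sup_right (S := E) h1) (mem_sup_left (T := pCore p G) he)
  convert h2 using 1
  show f * e * f⁻¹ = _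
  rw [commutatorElement_def]; group

theorem commutator_le_inf_bQ (hE : IsBlock p E) (hF : IsBlock p F) (h : ⁅E, F⁆ ≤ pCore p G) :
    ⁅E, F⁆ ≤ bQ p E ⊓ bQ p F := by
  have h' : ⁅F, E⁆ ≤ pCore p G := by rwa [commutator_comm]
  refine le_inf ((le_inf ?_ h).trans (inf_pCore_le E)) ((le_inf ?_ h).trans (inf_pCore_le F))
  · exact Coprime.commutator_le_of_le_normalizer (hE.le_normalizer_of_commutator_le h)
  · rw [commutator_comm]
    exact Coprime.commutator_le_of_le_normalizer (hF.le_normalizer_of_commutator_le h')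

/-- A `p'`-element centralising `Q` and moving `O_p(G)` only inside `Q` is trivial. -/
theorem eq_one_of_centralizes (hG : centralizer (pCore p G : Set G) ≤ pCore p G) {Q : Subgroup G}
    (hQ : IsPGroup p Q) {x : G} (hx : (orderOf x).Coprime p) (hfix : ∀ q ∈ Q, x * q * x⁻¹ = q)
    (hmove : ∀ u ∈ pCore p G, u⁻¹ * (x * u * x⁻¹) ∈ Q) : x = 1 := by
  have hc : x ∈ centralizer (pCore p G : Set G) := mem_centralizer_iff.mpr fun u hu => by
    have h := fix_of_step hQ hx (x := u) (r := u⁻¹ * (x * u * x⁻¹)) (by group) (hfix _ (hmove u hu))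
      (hmove u hu)
    exact (mul_inv_eq_iff_eq_mul.mp h).symm
  obtain ⟨k, hk⟩ := IsPGroup.iff_orderOf.mp (PSolvable.pCore_isPGroup (p := p) (G := G)) ⟨x, hG hc⟩
  rw [orderOf_mk] at hk
  rw [hk] at hx
  rw [← orderOf_eq_one_iff, hk]
  exact Nat.eq_one_of_dvd_coprimes (hx.pow_right k) dvd_rfl dvd_rfl

/-- Blocks whose quotient is not of order three. -/
def IsBig (p : ℕ) (E : Subgroup G) : Prop :=
  IsQuasisimple (↥E ⧸ pCore p ↥E) ∨ (p = 3 ∧ IsQEight (↥E ⧸ pCore p ↥E))

theorem IsBlock.isBig_or (hE : IsBlock p E) :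
    IsBig p E ∨ (p = 2 ∧ Nat.card (↥E ⧸ pCore p ↥E) = 3 ∧ bQ p E = bW p E ∧
      (bZ p E).relIndex (bW p E) = 4) := by
  rcases hE.kind with h | h | ⟨h3, h8, -⟩
  · exact Or.inl (Or.inl h)
  · exact Or.inr h
  · exact Or.inl (Or.inr ⟨h3, h8⟩)

theorem mem_bQ_iff {x : G} (hx : x ∈ E) :
    x ∈ bQ p E ↔ QuotientGroup.mk' (pCore p ↥E) ⟨x, hx⟩ = 1 := by
  rw [QuotientGroup.mk'_apply, QuotientGroup.eq_one_iff]
  constructor
  · rintro ⟨y, hy, hyx⟩
    rwa [show (⟨x, hx⟩ : E) = y from Subtype.ext hyx.symm]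
  · exact fun h => ⟨_, h, rfl⟩

theorem IsBlock.card_quot_ne_one (hE : IsBlock p E) : Nat.card (↥E ⧸ pCore p ↥E) ≠ 1 :=
  BTBlock.card_quot_ne_one hE.choose_spec

theorem IsBlock.exists_coprime_not_mem (hE : IsBlock p E) :
    ∃ g ∈ E, (orderOf g).Coprime p ∧ g ∉ bQ p E := by
  by_contra hc
  push Not at hc
  apply hE.card_quot_ne_one
  have hle : E ≤ bQ p E := by
    conv_lhs => rw [← hE.eq_closure]
    rw [closure_le]
    exact fun g hg => hc g hg.1 hg.2
  rw [← index_eq_card, index_eq_one, eq_top_iff]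
  intro e _
  obtain ⟨e', he', hee⟩ := hle e.2
  rwa [Subtype.ext hee] at he'

theorem IsBlock.exists_derived (hE : IsBlock p E) (hbig : IsBig p E) :
    ∃ j ∈ ⁅E, E⁆, (orderOf j).Coprime p ∧ j ∉ bQ p E := by
  rcases hbig with hq | ⟨hp3, h8, -, -, x, y, hxy⟩
  · obtain ⟨g, hg, hgo, hgQ⟩ := hE.exists_coprime_not_mem
    refine ⟨g, ?_, hgo, hgQ⟩
    have hsup : E ≤ ⁅E, E⁆ ⊔ bQ p E := by
      intro e he
      set q := QuotientGroup.mk' (pCore p ↥E)
      have hperf : commutator (↥E ⧸ pCore p ↥E) = ⊤ := Group.isPerfect_def.1 hq.1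
      have h1 : q ⟨e, he⟩ ∈ (commutator ↥E).map q := by
        rw [_root_.commutator_def, map_commutator,
          map_top_of_surjective _ (QuotientGroup.mk'_surjective _), ← _root_.commutator_def, hperf]
        exact mem_top _
      obtain ⟨c, hc, hce⟩ := h1
      have h2 : c⁻¹ * ⟨e, he⟩ ∈ pCore p ↥E := QuotientGroup.eq.mp hce
      have h3 : (c : G) ∈ ⁅E, E⁆ := by
        have h4 : (c : G) ∈ (commutator ↥E).map E.subtype := ⟨c, hc, rfl⟩
        rwa [_root_.commutator_def, map_commutator, ← MonoidHom.range_eq_map, range_subtype] at h4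
      have := mul_mem (mem_sup_left (T := bQ p E) h3)
        (mem_sup_right (S := ⁅E, E⁆) (⟨_, h2, rfl⟩ : ((c⁻¹ * ⟨e, he⟩ : E) : G) ∈ bQ p E))
      simpa using this
    have hQ : bQ p E ≤ ⁅E, E⁆ := by
      conv_lhs => rw [← hE.commutator_core]
      exact commutator_mono (Amalgam.pCoreOf_le p E) le_rfl
    exact (sup_le le_rfl hQ) (hsup hg)
  · obtain ⟨a, rfl⟩ := QuotientGroup.mk'_surjective (pCore p ↥E) x
    obtain ⟨b, rfl⟩ := QuotientGroup.mk'_surjective (pCore p ↥E) y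
    have hc : ⁅(a : G), (b : G)⁆ ∈ ⁅E, E⁆ := commutator_mem_commutator a.2 b.2
    obtain ⟨k, hk⟩ := exists_coprime_pow p ⁅(a : G), (b : G)⁆
    refine ⟨_, pow_mem hc _, hk, fun hQ => hxy ?_⟩
    have hcE : ⁅(a : G), (b : G)⁆ ∈ E := (commutator_le_self E) hc
    set q := QuotientGroup.mk' (pCore p ↥E)
    have h1 : (q ⟨_, hcE⟩) ^ p ^ k = 1 := by
      rw [← map_pow]; exact (mem_bQ_iff (pow_mem hcE _)).mp hQ
    have h2 : q ⟨_, hcE⟩ = 1 := by
      rw [← orderOf_eq_one_iff]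
      refine Nat.eq_one_of_dvd_coprimes (a := p ^ k) (b := 8) ?_ (orderOf_dvd_of_pow_eq_one h1)
        (h8 ▸ orderOf_dvd_natCard _)
      rw [hp3]
      exact Nat.Coprime.pow_left k (by norm_num)
    have h3 : ⁅q a, q b⁆ = 1 := by rw [← map_commutatorElement]; exact h2
    exact commutatorElement_eq_one_iff_mul_comm.mp h3

/-- Fixed points on `O_p` of a big block of the `p'`-elements of its derived subgroup are central. -/
theorem IsBlock.mem_bZ_of_fixed (hF : IsBlock p F) (hbig : IsBig p F) {x : G} (hx : x ∈ bQ p F)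
    (hfix : ∀ j ∈ ⁅F, F⁆, (orderOf j).Coprime p → j * x = x * j) : x ∈ bZ p F := by
  set J : Set G := {j | j ∈ ⁅F, F⁆ ∧ (orderOf j).Coprime p} with hJdef
  have hJF : J ⊆ F := fun j hj => commutator_le_self F hj.1
  have hJinv : ∀ U V : Subgroup G, ∀ y ∈ F, ∀ j ∈ J, ∃ j' ∈ J, TrivOn U V (j'⁻¹ * (y * j * y⁻¹)) := by
    intro U V y hy j hj
    refine ⟨y * j * y⁻¹, ⟨?_, ?_⟩, fun w _ => by
      rw [inv_mul_cancel]; simp [V.one_mem]⟩
    · exact (mem_normalizer_iff.mp ((Coprime.le_normalizer_commutator le_normalizer le_normalizer) hy)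
        j).mp hj.1
    · have := MulEquiv.orderOf_eq (MulAut.conj y) j
      rw [MulAut.conj_apply] at this
      rw [this]; exact hj.2
  obtain ⟨j, hjd, hjo, hjQ⟩ := hF.exists_derived hbig
  obtain ⟨hQ, hW, hZ⟩ := le_normalizer_section (p := p) F (le_normalizer (H := F))
  obtain ⟨hirr, hfaith, -⟩ := hF.section_W
  have hfix' : ∀ V : Subgroup G, ∀ j ∈ J, ⁅j, x⁆ ∈ V := fun V j hj => by
    rw [commutatorElement_eq_one_iff_mul_comm.mpr (hfix j hj.1 hj.2)]
    exact one_mem _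
  have hxW : x ∈ bW p F := by
    by_cases hexc : bQ p F = bW p F
    · exact hexc ▸ hx
    obtain ⟨-, ⟨hirr', hfaith', -⟩, hder, -, -⟩ := hF.exceptional hexc
    exact mem_of_fixed hQ hW (hder.le.trans inf_le_left) (bW_le F) hirr' hJF (hJinv _ _)
      ⟨j, ⟨hjd, hjo⟩, fun h => hjQ (hfaith' j (hJF ⟨hjd, hjo⟩) h)⟩ hx (hfix' _)
  exact mem_of_fixed hW hZ (commutator_bW_le F) inf_le_left hirr hJF (hJinv _ _)
    ⟨j, ⟨hjd, hjo⟩, fun h => hjQ (hfaith j (hJF ⟨hjd, hjo⟩) h)⟩ hxW (hfix' _)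

/-- A subgroup acting trivially, with commutators in `Q`, on a section. -/
theorem trivOn_of_mem_bQ {e : G} (E : Subgroup G) (he : e ∈ bQ p E) :
    TrivOn (bW p E) (bZ p E) e := fun w hw => by
  rw [commute_bW hw he, mul_inv_cancel_right, mul_inv_cancel]
  exact one_mem _

/-- The `p'`-elements of `⁅F, F⁆` centralise `O_p(E)` if `⁅E, F⁆ ≤ O_p(G)`. -/
theorem fix_bQ (hE : IsBlock p E) (hF : IsBlock p F) (h : ⁅E, F⁆ ≤ pCore p G) {j : G}
    (hj : j ∈ ⁅F, F⁆) (hjo : (orderOf j).Coprime p) : ∀ q ∈ bQ p E, j * q * j⁻¹ = q := by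
  have hjF : j ∈ F := commutator_le_self F hj
  have hFE : F ≤ normalizer (E : Set G) := hE.le_normalizer_of_commutator_le h
  obtain ⟨hQ, hW, hZ⟩ := le_normalizer_section (p := p) E hFE
  obtain ⟨hEQ, hEW, hEZ⟩ := le_normalizer_section (p := p) E (le_normalizer (H := E))
  have hD := commutator_le_inf_bQ hE hF h
  obtain ⟨hirr, -, -⟩ := hE.section_W
  have hcomm : ∀ a ∈ E, ∀ b ∈ F, ⁅a, b⁆ ∈ bQ p E := fun a ha b hb =>
    (hD (commutator_mem_commutator ha hb)).1
  have hjW : TrivOn (bW p E) (bZ p E) j := by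
    have hle : ⁅F, F⁆ ≤ trivSub (bW p E) (bZ p E) := by
      rw [commutator_le]
      intro a ha b hb
      refine ⟨le_inf hW hZ (commutator_le_self F (commutator_mem_commutator ha hb)), ?_⟩
      exact trivOn_commutator (commutator_bW_le E) hEW hEZ hW hZ inf_le_left hirr
        (fun c hc d hd => trivOn_of_mem_bQ E (hcomm c hc d hd)) ha hb
    exact (hle hj).2
  by_cases hexc : bQ p E = bW p E
  · -- `O_p(E) = ⁅bW, E⁆` is killed
    let δ : ∀ w : G, G := fun w => j * w * j⁻¹ * w⁻¹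
    let K : Subgroup G :=
      { carrier := {w | j * w * j⁻¹ = w}
        one_mem' := by simp
        mul_mem' := fun {a b} (ha : j * a * j⁻¹ = a) (hb : j * b * j⁻¹ = b) =>
          show j * (a * b) * j⁻¹ = a * b by
            calc j * (a * b) * j⁻¹ = (j * a * j⁻¹) * (j * b * j⁻¹) := by group
              _ = a * b := by rw [ha, hb]
        inv_mem' := fun {a} (ha : j * a * j⁻¹ = a) => show j * a⁻¹ * j⁻¹ = a⁻¹ by
          calc j * a⁻¹ * j⁻¹ = (j * a * j⁻¹)⁻¹ := by group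
            _ = a⁻¹ := by rw [ha] }
    intro q hq
    have hle : ⁅bQ p E, E⁆ ≤ K := by
      rw [commutator_le]
      intro w hw e he
      have hwW : w ∈ bW p E := hexc ▸ hw
      have hz : δ w ∈ bZ p E := hjW w hwW
      have hzc : ∀ a ∈ bQ p E, a * δ w = δ w * a := fun a ha => commute_bW hz.1 ha
      have hze : e * δ w * e⁻¹ = δ w := by
        rw [mem_centralizer_iff.mp hz.2 e he, mul_inv_cancel_right]
      set d := e⁻¹ * (j * e * j⁻¹) with hd
      have hdQ : d ∈ bQ p E := by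
        have h1 : ⁅e, j⁆ ∈ bQ p E := hcomm e he j hjF
        have h2 : e⁻¹ * ⁅e, j⁆⁻¹ * e⁻¹⁻¹ ∈ bQ p E :=
          (mem_normalizer_iff.mp (hEQ (inv_mem he)) _).mp (inv_mem h1)
        convert h2 using 1
        rw [hd, commutatorElement_def]; group
      have hjw : j * w * j⁻¹ = δ w * w := by simp only [δ]; group
      have hwE : e * w⁻¹ * e⁻¹ ∈ bW p E := (mem_normalizer_iff.mp (hEW he) _).mp (inv_mem hwW)
      have hdw : d * (δ w * w)⁻¹ * d⁻¹ = (δ w * w)⁻¹ := by
        rw [commute_bW (inv_mem (mul_mem hz.1 hwW)) hdQ, mul_inv_cancel_right]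
      show j * ⁅w, e⁆ * j⁻¹ = ⁅w, e⁆
      calc j * ⁅w, e⁆ * j⁻¹
          = (j * w * j⁻¹) * (e * d) * (j * w * j⁻¹)⁻¹ * (e * d)⁻¹ := by
            rw [commutatorElement_def, hd]; group
        _ = (δ w * w) * (e * (d * (δ w * w)⁻¹ * d⁻¹) * e⁻¹) := by rw [hjw]; group
        _ = δ w * (w * (e * w⁻¹ * e⁻¹)) * (e * δ w * e⁻¹)⁻¹ := by rw [hdw]; group
        _ = (w * (e * w⁻¹ * e⁻¹)) * δ w * (δ w)⁻¹ := by
          rw [hze, hzc _ (mul_mem hw (hexc ▸ hwE))]
        _ = ⁅w, e⁆ := by rw [commutatorElement_def]; group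
    exact hle (hE.commutator_core.symm ▸ hq)
  · obtain ⟨-, ⟨hirr', -, -⟩, hder, -, -⟩ := hE.exceptional hexc
    have hjQ : TrivOn (bQ p E) (bW p E) j := by
      have hle : ⁅F, F⁆ ≤ trivSub (bQ p E) (bW p E) := by
        rw [commutator_le]
        intro a ha b hb
        refine ⟨le_inf hQ hW (commutator_le_self F (commutator_mem_commutator ha hb)), ?_⟩
        exact trivOn_commutator (hder.le.trans inf_le_left) hEQ hEW hQ hW (bW_le E) hirr'
          (fun c hc d hd w hw => (hder.le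
            (commutator_mem_commutator (hcomm c hc d hd) hw)).1) ha hb
      exact (hle hj).2
    -- `j` centralises `Z`
    have hjZ : ∀ z ∈ bZ p E, j * z * j⁻¹ = z := by
      intro z hz
      rw [← hder, Subgroup.commutator_def] at hz
      induction hz using closure_induction with
      | mem y hy =>
        obtain ⟨a, ha, b, hb, rfl⟩ := hy
        have hwa := hjQ a ha
        have hwb := hjQ b hb
        set wa := j * a * j⁻¹ * a⁻¹
        set wb := j * b * j⁻¹ * b⁻¹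
        have e1 : wa * a = a * wa := (commute_bW hwa ha).symm
        have e2 : wb * b = b * wb := (commute_bW hwb hb).symm
        have c1 : ∀ q ∈ bQ p E, q * wa = wa * q := fun q hq => commute_bW hwa hq
        have c2 : ∀ q ∈ bQ p E, q * wb = wb * q := fun q hq => commute_bW hwb hq
        calc j * ⁅a, b⁆ * j⁻¹ = ⁅wa * a, wb * b⁆ := by
              simp only [wa, wb, commutatorElement_def]; group
          _ = wa * (a * wb) * (b * a⁻¹) * (wa⁻¹ * b⁻¹) * wb⁻¹ := by
              simp only [commutatorElement_def]; group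
          _ = wa * wb * (a * (b * a⁻¹)) * (wa⁻¹ * b⁻¹) * wb⁻¹ := by rw [c2 a ha]; group
          _ = wa * wb * ((a * (b * a⁻¹)) * wa⁻¹) * b⁻¹ * wb⁻¹ := by group
          _ = wa * wb * (wa⁻¹ * (a * (b * a⁻¹))) * b⁻¹ * wb⁻¹ := by
              rw [commute_bW (inv_mem hwa) (mul_mem ha (mul_mem hb (inv_mem ha)))]
          _ = (wa * wb * wa⁻¹) * ((a * b * a⁻¹ * b⁻¹) * wb⁻¹) := by group
          _ = wb * (wb⁻¹ * (a * b * a⁻¹ * b⁻¹)) := by
              rw [show wa * wb = wb * wa from c2 wa (bW_le E hwa), mul_inv_cancel_right,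
                commute_bW (inv_mem hwb) (mul_mem (mul_mem (mul_mem ha hb) (inv_mem ha)) (inv_mem hb))]
          _ = ⁅a, b⁆ := by rw [commutatorElement_def]; group
      | one => simp
      | mul a b _ _ ha hb =>
        calc j * (a * b) * j⁻¹ = (j * a * j⁻¹) * (j * b * j⁻¹) := by group
          _ = a * b := by rw [ha, hb]
      | inv a _ ha =>
        calc j * a⁻¹ * j⁻¹ = (j * a * j⁻¹)⁻¹ := by group
          _ = a⁻¹ := by rw [ha]
    have hzc : ∀ w ∈ bW p E, ∀ v ∈ bQ p E, v * w = w * v := fun w hw v hv => commute_bW hw hv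
    have hjW' : ∀ w ∈ bW p E, j * w * j⁻¹ = w := fun w hw => by
      have hz := hjW w hw
      refine fix_of_step (isPGroup_bQ E) hjo (r := j * w * j⁻¹ * w⁻¹) ?_ (hjZ _ hz) (bW_le E hz.1)
      rw [hzc _ hz.1 w (bW_le E hw)]
      group
    intro q hq
    have hw := hjQ q hq
    refine fix_of_step (isPGroup_bQ E) hjo (r := j * q * j⁻¹ * q⁻¹) ?_ (hjW' _ hw) (bW_le E hw)
    rw [commute_bW hw hq]
    group

/-- Blocks commuting modulo `O_p(G)` commute if one of them is big. -/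
theorem commutator_eq_bot_of_big (hE : IsBlock p E) (hF : IsBlock p F) (hbig : IsBig p F)
    (h : ⁅E, F⁆ ≤ pCore p G) : ⁅E, F⁆ = ⊥ := by
  have hD := commutator_le_inf_bQ hE hF h
  have hDc : ∀ x ∈ bQ p E ⊓ bQ p F, ∀ f ∈ F, f * x = x * f := by
    intro x hx f hf
    have hz := hF.mem_bZ_of_fixed hbig hx.2 fun j hj hjo =>
      mul_inv_eq_iff_eq_mul.mp (fix_bQ hE hF h hj hjo x hx.1)
    exact mem_centralizer_iff.mp hz.2 f hf
  rw [commutator_eq_bot_iff_le_centralizer]
  intro e he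
  rw [mem_centralizer_iff]
  have hle : F ≤ centralizer ({e} : Set G) := by
    conv_lhs => rw [← hF.eq_closure]
    rw [closure_le]
    rintro f ⟨hf, hfo⟩
    set d := e⁻¹ * (f * e * f⁻¹) with hd
    have hdD : d ∈ bQ p E ⊓ bQ p F := by
      have h1 : ⁅e⁻¹, f⁆ ∈ bQ p E ⊓ bQ p F := hD (commutator_mem_commutator (inv_mem he) hf)
      simpa [hd, commutatorElement_def, mul_assoc] using h1
    have h2 := fix_of_step (isPGroup_bQ E) hfo (x := e) (r := d) (by rw [hd]; group)
      (mul_inv_eq_iff_eq_mul.mpr (hDc d hdD f hf)) hdD.1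
    show f ∈ centralizer ({e} : Set G)
    rw [mem_centralizer_singleton_iff]
    exact mul_inv_eq_iff_eq_mul.mp h2
  intro f hf
  have := hle hf
  rw [mem_centralizer_singleton_iff] at this
  exact this

end Cfsg.Agent.Lib.BTBlock.Sub
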