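import Cfsg.Agent.Lib.BTBlock.Sub.Commute
import Cfsg.Agent.Lib.Components.Basic

/-!
# Subnormal blocks modulo `O_p(G)`: the component dichotomy
-/

set_option autoImplicit false

namespace Cfsg.Agent.Lib.BTBlock.Sub

open Subgroup Cfsg
open scoped commutatorElement

universe u

variable {G : Type u} [Group G] [Finite G] {p : ℕ} [Fact p.Prime] {E F : Subgroup G}

/-- The image of a subnormal block modulo `O_p(G)` is its quotient by `O_p`. -/
theorem nonempty_image_equiv (hEs : E.IsSubnormal) :
    Nonempty (↥(E.map (QuotientGroup.mk' (pCore p G))) ≃* ↥E ⧸ pCore p ↥E) := by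
  set q := (QuotientGroup.mk' (pCore p G)).subgroupMap E
  have hker : q.ker = pCore p ↥E := by
    ext x
    rw [MonoidHom.mem_ker]
    have h1 : q x = 1 ↔ (x : G) ∈ pCore p G := by
      rw [Subtype.ext_iff]
      exact QuotientGroup.eq_one_iff _
    rw [h1]
    constructor
    · intro h
      obtain ⟨y, hy, hyx⟩ := (bQ_eq (p := p) hEs).ge ⟨x.2, h⟩
      rwa [show x = y from Subtype.ext hyx.symm]
    · exact fun h => ((bQ_eq (p := p) hEs).le ⟨x, h, rfl⟩).2
  exact ⟨(QuotientGroup.quotientKerEquivOfSurjective q (MonoidHom.subgroupMap_surjective _ E)).symm.trans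
    (QuotientGroup.quotientMulEquivOfEq hker)⟩

theorem image_isComponent (hEs : E.IsSubnormal) (hq : IsQuasisimple (↥E ⧸ pCore p ↥E)) :
    IsComponent (E.map (QuotientGroup.mk' (pCore p G))) := by
  refine ⟨hEs.map (QuotientGroup.mk'_surjective _), ?_⟩
  obtain ⟨e⟩ := nonempty_image_equiv (p := p) hEs
  exact quasisimple_of_equiv e hq

omit [Fact p.Prime] in
theorem le_sup_of_image_le
    (h : E.map (QuotientGroup.mk' (pCore p G)) ≤ F.map (QuotientGroup.mk' (pCore p G))) :
    E ≤ F ⊔ pCore p G := by
  have := (map_le_iff_le_comap.mp h)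
  rwa [comap_map_eq, QuotientGroup.ker_mk'] at this

omit [Fact p.Prime] in
theorem commutator_le_of_image_eq_bot
    (h : ⁅E.map (QuotientGroup.mk' (pCore p G)), F.map (QuotientGroup.mk' (pCore p G))⁆ = ⊥) :
    ⁅E, F⁆ ≤ pCore p G := by
  rw [← map_commutator, Subgroup.map_eq_bot_iff, QuotientGroup.ker_mk'] at h
  exact h

theorem IsSmallBlock.isSolvable_image (hs : IsSmallBlock p F) (hFs : F.IsSubnormal) :
    Group.IsSolvable ↥(F.map (QuotientGroup.mk' (pCore p G))) := by
  obtain ⟨e⟩ := nonempty_image_equiv (p := p) hFs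
  have h : ∃ r n : ℕ, r.Prime ∧ Nat.card ↥(F.map (QuotientGroup.mk' (pCore p G))) = r ^ n := by
    rcases hs with ⟨-, hc, -⟩ | ⟨-, ⟨hc, -⟩, -⟩
    · exact ⟨3, 1, Nat.prime_three, by rw [Nat.card_congr e.toEquiv, hc, pow_one]⟩
    · exact ⟨2, 3, Nat.prime_two, by rw [Nat.card_congr e.toEquiv, hc]; norm_num⟩
  obtain ⟨r, n, hr, hc⟩ := h
  haveI := Fact.mk hr
  haveI := (IsPGroup.of_card hc).isNilpotent
  infer_instance

/-- A quasisimple subnormal block is equal to, or commutes modulo `O_p(G)` with, any other one. -/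
theorem eq_or_commutator_le_of_quasisimple (hE : IsBlock p E) (hF : IsBlock p F)
    (hEs : E.IsSubnormal) (hFs : F.IsSubnormal) (hq : IsQuasisimple (↥E ⧸ pCore p ↥E)) :
    E = F ∨ ⁅E, F⁆ ≤ pCore p G := by
  have hc := image_isComponent hEs hq
  rcases hF.kind with hq' | hs
  · have hc' := image_isComponent hFs hq'
    by_cases h : E.map (QuotientGroup.mk' (pCore p G)) = F.map (QuotientGroup.mk' (pCore p G))
    · exact Or.inl (hE.eq_of_le_sup hF (le_sup_of_image_le h.ge) (le_sup_of_image_le h.le))
    · exact Or.inr (commutator_le_of_image_eq_bot (Components.isComponent_commutator_eq_bot hc hc' h))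
  · rcases Components.isComponent_le_or_commutator_eq_bot hc
      (hFs.map (QuotientGroup.mk'_surjective (pCore p G))) with h | h
    · exfalso
      haveI := hs.isSolvable_image hFs
      exact Components.quasisimple_not_isSolvable hc.2
        (Group.isSolvable_of_isSolvable_injective (f := Subgroup.inclusion h)
          (Subgroup.inclusion_injective h))
    · exact Or.inr (commutator_le_of_image_eq_bot h)

/-- Unless both are small, subnormal blocks are equal or commute. -/
theorem eq_or_commute_of_not_small (hE : IsBlock p E) (hF : IsBlock p F)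
    (hEs : E.IsSubnormal) (hFs : F.IsSubnormal) (h : ¬ (IsSmallBlock p E ∧ IsSmallBlock p F)) :
    E = F ∨ ⁅E, F⁆ = ⊥ := by
  rcases hE.kind with hq | hs
  · rcases eq_or_commutator_le_of_quasisimple hE hF hEs hFs hq with he | hc
    · exact Or.inl he
    · refine Or.inr ?_
      rw [commutator_comm] at hc ⊢
      exact commutator_eq_bot_of_big hF hE (Or.inl hq) hc
  · have hq : IsQuasisimple (↥F ⧸ pCore p ↥F) := (hF.kind).resolve_right fun hf => h ⟨hs, hf⟩
    rcases eq_or_commutator_le_of_quasisimple hF hE hFs hEs hq with he | hc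
    · exact Or.inl he.symm
    · refine Or.inr (commutator_eq_bot_of_big hE hF (Or.inl hq) ?_)
      rwa [commutator_comm]

end Cfsg.Agent.Lib.BTBlock.Sub
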