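import Cfsg.Agent.Lib.BTBlock.Sub.SmallBasic

/-!
# Operators on sections of order nine
-/

set_option autoImplicit false

namespace Cfsg.Agent.Lib.BTBlock.Sub

open Subgroup Cfsg
open scoped commutatorElement

universe u

/-- An involution without nontrivial fixed points inverts an abelian group. -/
theorem inv_of_fpf {X : Type*} [CommGroup X] {σ : MulAut X} (h2 : σ * σ = 1)
    (hfix : ∀ x, σ x = x → x = 1) (x : X) : σ x = x⁻¹ := by
  have h : σ (σ x) = x := by rw [← MulAut.mul_apply, h2, MulAut.one_apply]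
  have := hfix (x * σ x) (by rw [map_mul, h, mul_comm])
  rw [mul_eq_one_iff_inv_eq] at this
  exact this.symm

/-- Two automorphisms squaring to inversion of a group of order nine agreeing on a point agree. -/
theorem eq_of_sq_inv {X : Type*} [CommGroup X] [Finite X] (h9 : Nat.card X = 9) {M M' : MulAut X}
    {v : X} (hv : v ≠ 1) (hMv : M v ≠ v) (hMv' : M v ≠ v⁻¹) (h1 : M v = M' v)
    (h2 : M (M v) = M' (M v)) : M = M' := by
  classical
  set L := MonoidHom.eqLocus M.toMonoidHom M'.toMonoidHom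
  have hvv : v⁻¹ ≠ v := fun h => hv (by
    have h' : v ^ 2 = 1 := by rw [sq]; exact mul_eq_one_iff_inv_eq.mpr h
    have hd : orderOf v ∣ 9 := h9 ▸ orderOf_dvd_natCard v
    have := Nat.dvd_gcd (orderOf_dvd_of_pow_eq_one h') hd
    exact orderOf_eq_one_iff.mp (Nat.dvd_one.mp (by simpa using this)))
  have h4 : 4 ≤ Nat.card L := by
    let s : Finset X := {1, v, v⁻¹, M v}
    have hs : s.card = 4 := by
      have a1 : (1 : X) ≠ v := Ne.symm hv
      have a2 : (1 : X) ≠ v⁻¹ := fun h => hv (inv_eq_one.mp h.symm)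
      have a3 : (1 : X) ≠ M v := fun h => hv (by simpa using h.symm)
      simp [s, a1, a2, a3, Ne.symm hvv, Ne.symm hMv, Ne.symm hMv']
    have hsub : ∀ x ∈ s, x ∈ L := by
      intro x hx
      simp only [s, Finset.mem_insert, Finset.mem_singleton] at hx
      rcases hx with rfl | rfl | rfl | rfl
      · exact one_mem _
      · exact h1
      · exact inv_mem (show v ∈ L from h1)
      · exact h2
    rw [← hs, ← Nat.card_eq_finsetCard]
    exact Nat.card_le_card_of_injective (fun x : s => (⟨x, hsub x x.2⟩ : L))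
      fun a b h => Subtype.ext (congrArg Subtype.val h :)
  have hd : Nat.card L ∣ 3 ^ 2 := by
    rw [show (3 : ℕ) ^ 2 = Nat.card X from h9.symm]; exact card_subgroup_dvd_card L
  obtain ⟨k, hk, hk'⟩ := (Nat.dvd_prime_pow Nat.prime_three).mp hd
  have hk2 : k = 2 := by
    interval_cases k <;> omega
  have htop : L = ⊤ := eq_top_of_card_eq _ (by rw [hk', hk2, h9]; norm_num)
  exact MulEquiv.ext fun x => htop.ge (mem_top x)

theorem not_central_of_qEight {K : Type*} [Group K] (h : IsQEight K) {a : K}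
    (hc : ∀ x, a * x = x * a) : a * a = 1 := by
  obtain ⟨-, h4, hu, x, y, hxy⟩ := h
  by_contra ha
  have hx2 : x * x ≠ 1 := fun hx => hxy (by
    rcases eq_or_ne x 1 with rfl | hx1
    · simp
    have hconj : y * x * y⁻¹ = x := hu _ _ (by
      calc y * x * y⁻¹ * (y * x * y⁻¹) = y * (x * x) * y⁻¹ := by group
        _ = 1 := by rw [hx]; group) hx (fun h0 => hx1 (conj_eq_one_iff.mp h0)) hx1
    exact (mul_inv_eq_iff_eq_mul.mp hconj).symm)
  have hsq : ∀ z : K, z * z * (z * z) = 1 := fun z => by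
    rw [← h4 z, pow_succ, pow_succ, pow_two]; group
  have he : a * a = x * x := hu _ _ (hsq a) (hsq x) ha hx2
  have hinv : (a⁻¹ * x) * (a⁻¹ * x) = 1 := by
    have h1 : a⁻¹ * x = x * a⁻¹ := by
      calc a⁻¹ * x = a⁻¹ * (x * a) * a⁻¹ := by group
        _ = x * a⁻¹ := by rw [← hc x]; group
    calc (a⁻¹ * x) * (a⁻¹ * x) = a⁻¹ * (x * a⁻¹) * x := by group
      _ = (a * a)⁻¹ * (x * x) := by rw [← h1]; group
      _ = 1 := by rw [he]; group
  rcases eq_or_ne (a⁻¹ * x) 1 with h0 | h0
  · exact hxy (by rw [← inv_mul_eq_one.mp h0]; exact hc y)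
  · have hconj : y * (a⁻¹ * x) * y⁻¹ = a⁻¹ * x := hu _ _ (by
      calc y * (a⁻¹ * x) * y⁻¹ * (y * (a⁻¹ * x) * y⁻¹) = y * ((a⁻¹ * x) * (a⁻¹ * x)) * y⁻¹ := by
            group
        _ = 1 := by rw [hinv]; group) hinv (fun h => h0 (conj_eq_one_iff.mp h)) h0
    refine hxy ?_
    have h1 : y * (a⁻¹ * x) = a⁻¹ * x * y := mul_inv_eq_iff_eq_mul.mp hconj
    calc x * y = a * (a⁻¹ * x * y) := by group
      _ = (a * y) * (a⁻¹ * x) := by rw [← h1]; group
      _ = y * x := by rw [hc y]; group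

/-- A group of order eight acting without fixed points on a group of order nine is transitive. -/
theorem exists_apply_eq {A : Type*} [Group A] [Finite A] {X : Type*} [CommGroup X] [Finite X]
    (hA : IsQEight A) (h9 : Nat.card X = 9) (θ : A →* MulAut X)
    (hinv : ∀ a : A, a * a = 1 → a ≠ 1 → ∀ x, θ a x = x → x = 1) {v : X} (hv : v ≠ 1) {w : X}
    (hw : w ≠ 1) : ∃ a : A, θ a v = w := by
  have hfree : ∀ a : A, θ a v = v → a = 1 := by
    intro a ha
    by_contra h1
    by_cases h2 : a * a = 1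
    · exact hv (hinv a h2 h1 v ha)
    · refine hv (hinv (a * a) ?_ h2 v ?_)
      · rw [← hA.2.1 a, pow_succ, pow_succ, pow_two]; group
      · rw [map_mul, MulAut.mul_apply, ha, ha]
  let f : A → {x : X // x ≠ 1} := fun a => ⟨θ a v, fun h => hv ((θ a).injective (h.trans (map_one _).symm))⟩
  have hinj : Function.Injective f := fun a b h => by
    have h' : θ a v = θ b v := congrArg Subtype.val h
    have := hfree (b⁻¹ * a) (by
      rw [map_mul, MulAut.mul_apply, h', ← MulAut.mul_apply, ← map_mul, inv_mul_cancel, map_one,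
        MulAut.one_apply])
    exact (inv_mul_eq_one.mp this).symm
  have hcard : Nat.card {x : X // x ≠ 1} = 8 := by
    classical
    have := Fintype.ofFinite X
    rw [Nat.card_eq_fintype_card, Fintype.card_subtype_compl, Fintype.card_subtype_eq,
      ← Nat.card_eq_fintype_card, h9]
  obtain ⟨a, ha⟩ := ((Nat.bijective_iff_injective_and_card f).mpr ⟨hinj, by rw [hA.1, hcard]⟩).2 ⟨w, hw⟩
  exact ⟨a, congrArg Subtype.val ha⟩

/-- Any operator whose square is a fixed-point-free involution is one of the group. -/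
theorem exists_same_aut {A : Type*} [Group A] [Finite A] {X : Type*} [CommGroup X] [Finite X]
    (hA : IsQEight A) (h9 : Nat.card X = 9) (θ : A →* MulAut X)
    (hinv : ∀ a : A, a * a = 1 → a ≠ 1 → ∀ x, θ a x = x → x = 1) (M : MulAut X)
    (hM : ∀ x, (M * M) x = x → x = 1) (hM4 : M * M * (M * M) = 1) :
    ∃ a : A, θ a = M := by
  obtain ⟨v, hv⟩ : ∃ v : X, v ≠ 1 := by
    by_contra hc
    push Not at hc
    haveI : Subsingleton X := ⟨fun a b => by rw [hc a, hc b]⟩
    rw [Nat.card_unique] at h9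
    omega
  have hMinv : ∀ x, M (M x) = x⁻¹ := inv_of_fpf hM4 hM
  have hMv : M v ≠ v := fun h => hv (hM v (by rw [MulAut.mul_apply, h, h]))
  have hMv' : M v ≠ v⁻¹ := fun h => hv (hM v (by rw [MulAut.mul_apply, h, map_inv, h, inv_inv]))
  obtain ⟨a, ha⟩ := exists_apply_eq hA h9 θ hinv hv (fun h => hv (M.injective (h.trans (map_one M).symm)))
  refine ⟨a, (eq_of_sq_inv h9 hv hMv hMv' ha.symm ?_).symm⟩
  have ha2 : a * a ≠ 1 := fun h2 => by
    rcases eq_or_ne a 1 with rfl | h1
    · rw [map_one, MulAut.one_apply] at ha; exact hMv ha.symm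
    · have := inv_of_fpf (σ := θ a) (by rw [← map_mul, h2, map_one]) (hinv a h2 h1) v
      exact hMv' (ha ▸ this)
  have h4 : a * a * (a * a) = 1 := by rw [← hA.2.1 a, pow_succ, pow_succ, pow_two]; group
  rw [hMinv, ← ha, ← MulAut.mul_apply, ← map_mul]
  exact (inv_of_fpf (by rw [← map_mul, h4, map_one]) (hinv _ h4 ha2) v).symm

/-- An operator commuting with the group is trivial or the inversion. -/
theorem eq_one_or_inv_of_commute {A : Type*} [Group A] [Finite A] {X : Type*} [CommGroup X] [Finite X]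
    (hA : IsQEight A) (h9 : Nat.card X = 9) (θ : A →* MulAut X)
    (hinv : ∀ a : A, a * a = 1 → a ≠ 1 → ∀ x, θ a x = x → x = 1) (C : MulAut X)
    (hC : ∀ a, C * θ a = θ a * C) : C = 1 ∨ ∀ x, C x = x⁻¹ := by
  obtain ⟨v, hv⟩ : ∃ v : X, v ≠ 1 := by
    by_contra hc
    push Not at hc
    haveI : Subsingleton X := ⟨fun a b => by rw [hc a, hc b]⟩
    rw [Nat.card_unique] at h9
    omega
  have horb : ∀ a : A, ∀ x, C (θ a x) = θ a (C x) := fun a x => by
    rw [← MulAut.mul_apply, hC, MulAut.mul_apply]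
  have hCv : C v ≠ 1 := fun h => hv (C.injective (h.trans (map_one C).symm))
  obtain ⟨a, ha⟩ := exists_apply_eq hA h9 θ hinv hv hCv
  rcases eq_or_ne a 1 with rfl | h1
  · rw [map_one, MulAut.one_apply] at ha
    refine Or.inl (MulEquiv.ext fun x => ?_)
    rcases eq_or_ne x 1 with rfl | hx
    · simp
    obtain ⟨b, rfl⟩ := exists_apply_eq hA h9 θ hinv hv hx
    rw [horb, ← ha, MulAut.one_apply]
  by_cases h2 : a * a = 1
  · have hav : θ a v = v⁻¹ := inv_of_fpf (by rw [← map_mul, h2, map_one]) (hinv a h2 h1) v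
    refine Or.inr fun x => ?_
    rcases eq_or_ne x 1 with rfl | hx
    · simp
    obtain ⟨b, rfl⟩ := exists_apply_eq hA h9 θ hinv hv hx
    rw [horb, ← ha, hav, map_inv]
  · exfalso
    have h4 : a * a * (a * a) = 1 := by rw [← hA.2.1 a, pow_succ, pow_succ, pow_two]; group
    have hsq : ∀ x, θ a (θ a x) = x⁻¹ := fun x => by
      rw [← MulAut.mul_apply, ← map_mul]
      exact inv_of_fpf (by rw [← map_mul, h4, map_one]) (hinv _ h4 h2) x
    have hnv : θ a v ≠ v := fun h => hv (hinv _ h4 h2 v (by rw [map_mul, MulAut.mul_apply, h, h]))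
    have hnv' : θ a v ≠ v⁻¹ := fun h => hv (hinv _ h4 h2 v (by
      rw [map_mul, MulAut.mul_apply, h, map_inv, h, inv_inv]))
    have hCa : θ a = C := eq_of_sq_inv h9 hv hnv hnv' ha (by rw [horb a v, ← ha])
    refine h2 (not_central_of_qEight hA fun b => ?_)
    have hk : θ (b⁻¹ * a⁻¹ * b * a) = 1 := by
      rw [map_mul, map_mul, map_mul, map_inv, map_inv]
      have := hC b
      rw [← hCa] at this
      rw [mul_assoc, mul_assoc, ← this]
      simp
    by_contra hne
    have h1' : b⁻¹ * a⁻¹ * b * a ≠ 1 := fun h => hne (by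
      calc a * b = a * b * 1 := by rw [mul_one]
        _ = a * b * (b⁻¹ * a⁻¹ * b * a) := by rw [h]
        _ = b * a := by group)
    set c := b⁻¹ * a⁻¹ * b * a
    by_cases hc2 : c * c = 1
    · exact hv (hinv c hc2 h1' v (by rw [hk, MulAut.one_apply]))
    · refine hv (hinv (c * c) ?_ hc2 v (by rw [map_mul, hk, mul_one, MulAut.one_apply]))
      rw [← hA.2.1 c, pow_succ, pow_succ, pow_two]; group

/-- A `3`-power order automorphism of a group of order at most nine is quadratic. -/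
theorem quadratic_of_card_le {Y : Type*} [CommGroup Y] [Finite Y] (hY : IsPGroup 3 Y) (β : MulAut Y)
    (hβ : ∃ m : ℕ, β ^ 3 ^ m = 1) (P : Subgroup Y) (hinv : ∀ x ∈ P, β x ∈ P) (h9 : Nat.card P ≤ 9)
    {x : Y} (hx : x ∈ P) : β (β x / x) = β x / x := by
  haveI : Fact (Nat.Prime 3) := ⟨Nat.prime_three⟩
  rcases eq_or_ne P ⊥ with hP | hP
  · rw [hP, mem_bot] at hx; subst hx; simp
  let t : Y →* Y :=
    { toFun := fun y => β y / y
      map_one' := by simp
      map_mul' := fun a b => by rw [map_mul, mul_div_mul_comm] }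
  set R := P.map t with hR
  have hRP : R ≤ P := by
    rintro _ ⟨y, hy, rfl⟩
    exact P.div_mem (hinv y hy) hy
  -- a nontrivial fixed point
  obtain ⟨c, hcP, hc1, hcfix⟩ : ∃ c ∈ P, c ≠ 1 ∧ β c = c := by
    let K := zpowers β
    have hK : IsPGroup 3 K := by
      obtain ⟨m, hm⟩ := hβ
      obtain ⟨k, -, hk⟩ := (Nat.dvd_prime_pow Nat.prime_three).mp (orderOf_dvd_of_pow_eq_one hm)
      exact IsPGroup.of_card (n := k) (by rw [Nat.card_zpowers, hk])
    have hmem : ∀ k : K, ∀ y ∈ P, (k : MulAut Y) y ∈ P := by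
      rintro ⟨k, hk⟩ y hy
      have hfin : ∀ n : ℕ, (β ^ n) y ∈ P := fun n => by
        induction n with
        | zero => simpa using hy
        | succ n ih => rw [pow_succ', MulAut.mul_apply]; exact hinv _ ih
      obtain ⟨n, hn⟩ := Submonoid.mem_powers_iff _ _ |>.mp (mem_powers_iff_mem_zpowers.mpr hk)
      exact hn ▸ hfin n
    let act : MulAction K P :=
      { smul := fun k y => ⟨(k : MulAut Y) y, hmem k y y.2⟩
        one_smul := fun y => Subtype.ext rfl
        mul_smul := fun k l y => Subtype.ext rfl }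
    have hdvd : 3 ∣ Nat.card P := by
      obtain ⟨k, hk⟩ := IsPGroup.iff_card.mp (hY.to_subgroup P)
      rw [hk]
      refine dvd_pow_self 3 fun h0 => hP (card_eq_one.mp ?_)
      rw [hk, h0, pow_zero]
    obtain ⟨c, hc, hne⟩ := hK.exists_fixed_point_of_prime_dvd_card_of_fixed_point P hdvd
      (a := (1 : P)) (fun k => Subtype.ext (map_one (k : MulAut Y)))
    exact ⟨c, c.2, fun h => hne (Subtype.ext h.symm), congrArg Subtype.val (hc ⟨β, mem_zpowers β⟩)⟩
  have hlt : Nat.card R < Nat.card P := by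
    refine lt_of_le_of_ne (Nat.card_le_card_of_surjective
      (fun y : P => (⟨t y, y, y.2, rfl⟩ : R)) (by rintro ⟨_, y, hy, rfl⟩; exact ⟨⟨y, hy⟩, rfl⟩))
      fun heq => hc1 ?_
    let g : P → R := fun y => ⟨t y, y, y.2, rfl⟩
    have hb : Function.Bijective g := (Nat.bijective_iff_surjective_and_card g).mpr
      ⟨by rintro ⟨_, y, hy, rfl⟩; exact ⟨⟨y, hy⟩, rfl⟩, heq.symm⟩
    have h1 : g ⟨c, hcP⟩ = g 1 := Subtype.ext (by
      show β c / c = β ((1 : P) : Y) / ((1 : P) : Y)
      rw [hcfix]; simp)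
    exact congrArg Subtype.val (hb.1 h1)
  have hR3 : Nat.card R ≤ 3 := by
    obtain ⟨k, hk⟩ := IsPGroup.iff_card.mp (hY.to_subgroup R)
    rw [hk] at hlt ⊢
    rcases k with _ | _ | k
    · norm_num
    · norm_num
    · exfalso
      have h3 : 1 ≤ 3 ^ k := Nat.one_le_pow _ _ (by norm_num)
      rw [pow_succ, pow_succ] at hlt
      omega
  have hmemR : t x ∈ R := ⟨x, hx, rfl⟩
  set r := t x
  show β r = r
  have hβR : β r ∈ R := ⟨β x, hinv x hx, by
    show β (β x) / β x = β (β x / x)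
    rw [map_div]⟩
  rcases eq_or_ne r 1 with h | h
  · rw [h, map_one]
  by_contra hne
  have hrr : r⁻¹ ≠ r := fun hh => h (by
    have h' : r ^ 2 = 1 := by rw [sq]; exact mul_eq_one_iff_inv_eq.mpr hh
    obtain ⟨k, hk⟩ := IsPGroup.iff_orderOf.mp hY r
    have h2 := orderOf_dvd_of_pow_eq_one h'
    rw [← orderOf_eq_one_iff, hk]
    rw [hk] at h2
    exact Nat.eq_one_of_dvd_coprimes ((by norm_num : (3 : ℕ).Coprime 2).pow_left k) dvd_rfl h2)
  classical
  have hneg : β r = r⁻¹ := by
    by_contra hn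
    have hs : ({1, r, r⁻¹, β r} : Finset Y).card = 4 := by
      have a1 : (1 : Y) ≠ r := Ne.symm h
      have a2 : (1 : Y) ≠ r⁻¹ := fun hh => h (inv_eq_one.mp hh.symm)
      have a3 : (1 : Y) ≠ β r := fun hh => h (by simpa using hh.symm)
      simp [a1, a2, a3, Ne.symm hrr, Ne.symm hne, Ne.symm hn]
    have hle : ({1, r, r⁻¹, β r} : Finset Y).card ≤ Nat.card R := by
      rw [← Nat.card_eq_finsetCard]
      refine Nat.card_le_card_of_injective (fun y => (⟨y.1, ?_⟩ : R))
        fun a b hh => Subtype.ext (congrArg Subtype.val hh :)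
      have := y.2
      simp only [Finset.mem_insert, Finset.mem_singleton] at this
      rcases this with hh | hh | hh | hh <;> rw [hh]
      exacts [one_mem _, hmemR, inv_mem hmemR, hβR]
    omega
  obtain ⟨m, hm⟩ := hβ
  have hodd : ∀ n : ℕ, (β ^ n) r = if Even n then r else r⁻¹ := by
    intro n
    induction n with
    | zero => simp
    | succ n ih =>
      rw [pow_succ', MulAut.mul_apply, ih]
      by_cases hn : Even n
      · simp [hn, Nat.even_add_one, hneg]
      · simp [hn, Nat.even_add_one, hneg]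
  have h3 := hodd (3 ^ m)
  rw [hm, MulAut.one_apply, if_neg (by rw [Nat.not_even_iff_odd]; exact Odd.pow ⟨1, rfl⟩)] at h3
  exact hrr h3.symm

/-- An automorphism commuting with an involution having small eigen-subgroups is quadratic. -/
theorem quadratic_of_commute {Y : Type*} [CommGroup Y] [Finite Y] (hY : IsPGroup 3 Y) (A β : MulAut Y)
    (hA : A * A = 1) (hβ : ∃ m : ℕ, β ^ 3 ^ m = 1) (hAB : A * β = β * A) (P₁ P₂ : Subgroup Y)
    (h₁ : ∀ x, x ∈ P₁ ↔ A x = x) (h₂ : ∀ x, x ∈ P₂ ↔ A x = x⁻¹) (c₁ : Nat.card P₁ ≤ 9)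
    (c₂ : Nat.card P₂ ≤ 9) (y : Y) : β (β y / y) = β y / y := by
  have hc : ∀ x, A (β x) = β (A x) := fun x => by rw [← MulAut.mul_apply, hAB, MulAut.mul_apply]
  have hAA : A (A y) = y := by rw [← MulAut.mul_apply, hA, MulAut.one_apply]
  let K : Subgroup Y :=
    { carrier := {x | β (β x / x) = β x / x}
      one_mem' := by simp
      mul_mem' := fun {a b} (ha : β (β a / a) = β a / a) (hb : β (β b / b) = β b / b) =>
        show β (β (a * b) / (a * b)) = β (a * b) / (a * b) by
          rw [map_mul, mul_div_mul_comm, map_mul, ha, hb]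
      inv_mem' := fun {a} (ha : β (β a / a) = β a / a) => show β (β a⁻¹ / a⁻¹) = β a⁻¹ / a⁻¹ by
        rw [map_inv, ← inv_div', map_inv, ha] }
  have e1 : y * A y ∈ K := quadratic_of_card_le hY β hβ P₁
    (fun x hx => (h₁ _).mpr (by rw [hc, (h₁ x).mp hx])) c₁
    ((h₁ _).mpr (by rw [map_mul, hAA, mul_comm]))
  have e2 : y / A y ∈ K := quadratic_of_card_le hY β hβ P₂
    (fun x hx => (h₂ _).mpr (by rw [hc, (h₂ x).mp hx, map_inv])) c₂
    ((h₂ _).mpr (by rw [map_div, hAA, inv_div]))
  have e : y ^ 2 ∈ K := by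
    have : y ^ 2 = (y * A y) * (y / A y) := by
      rw [sq, div_eq_mul_inv, mul_mul_mul_comm, mul_inv_cancel, mul_one]
    exact this ▸ mul_mem e1 e2
  obtain ⟨k, hk⟩ := IsPGroup.iff_orderOf.mp hY y
  have hcop : (orderOf y).Coprime 2 := by rw [hk]; exact Nat.Coprime.pow_left k (by norm_num)
  obtain ⟨j, hj⟩ := exists_pow_eq_self_of_coprime hcop.symm
  exact hj ▸ (pow_mem e j : (y ^ 2) ^ j ∈ K)

end Cfsg.Agent.Lib.BTBlock.Sub
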