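import Cfsg.Agent.Lib.BTBlock.Sub.Orbit
import Cfsg.Agent.Lib.BTBlock.Sub.NineOps

/-!
# Small blocks normalising each other
-/

set_option autoImplicit false

namespace Cfsg.Agent.Lib.BTBlock.Sub

open Subgroup Cfsg
open scoped commutatorElement

universe u

variable {G : Type u} [Group G]

/-- An abelian section as a commutative group. -/
@[reducible]
def sectionCommGroup {W Z : Subgroup G} (hWW : ⁅W, W⁆ ≤ Z) [(Z.subgroupOf W).Normal] :
    CommGroup (W ⧸ Z.subgroupOf W) :=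
  { (inferInstance : Group (W ⧸ Z.subgroupOf W)) with
    mul_comm := fun x y => by
      induction x using QuotientGroup.induction_on with
      | H a =>
        induction y using QuotientGroup.induction_on with
        | H b =>
          refine QuotientGroup.eq.mpr ?_
          rw [mem_subgroupOf]
          have h := hWW (commutator_mem_commutator (W.inv_mem b.2) (W.inv_mem a.2))
          simpa [commutatorElement_def, mul_assoc] using h }

theorem sectionAut_fixed_iff {A W Z : Subgroup G} (hW : A ≤ normalizer (W : Set G))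
    (hZ : A ≤ normalizer (Z : Set G)) (hWW : ⁅W, W⁆ ≤ Z) [(Z.subgroupOf W).Normal] (a : A) (w : W) :
    RankTwo.sectionAut hW hZ a (w : W ⧸ Z.subgroupOf W) = w ↔ ⁅(a : G), (w : G)⁆ ∈ Z := by
  letI := sectionCommGroup hWW
  rw [RankTwo.sectionAut_mk, ← mul_inv_eq_one, ← QuotientGroup.mk_inv, ← QuotientGroup.mk_mul,
    QuotientGroup.eq_one_iff, mem_subgroupOf]
  rfl

variable [Finite G]

theorem exists_trivOn_inv_mul {W Z : Subgroup G} (hWW : ⁅W, W⁆ ≤ Z) (h9 : Z.relIndex W = 9)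
    {A : Subgroup G} (hA : IsQEight A)
    (hAH : A ≤ normalizer (W : Set G) ⊓ normalizer (Z : Set G))
    (hinv : ∀ a ∈ A, a * a = 1 → a ≠ 1 → ∀ w ∈ W, ⁅a, w⁆ ∈ Z → w ∈ Z) {f : G}
    (hf : f ∈ normalizer (W : Set G) ⊓ normalizer (Z : Set G))
    (hf2 : ∀ w ∈ W, ⁅f * f, w⁆ ∈ Z → w ∈ Z) (hf4 : TrivOn W Z (f * f * (f * f))) :
    ∃ a ∈ A, TrivOn W Z (a⁻¹ * f) := by
  haveI := normal_subgroupOf_of_commutator_le hWW
  letI := sectionCommGroup hWW
  set H := normalizer (W : Set G) ⊓ normalizer (Z : Set G)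
  let θ : H →* MulAut (W ⧸ Z.subgroupOf W) :=
    RankTwo.sectionAut (A := H) inf_le_left inf_le_right
  let fH : H := ⟨f, hf⟩
  obtain ⟨a, ha⟩ := exists_same_aut hA h9 (θ.comp (Subgroup.inclusion hAH))
    (fun a ha2 ha1 x hx => by
      induction x using QuotientGroup.induction_on with
      | H w =>
        refine (QuotientGroup.eq_one_iff w).mpr ?_
        exact hinv a a.2 (congrArg Subtype.val ha2) (fun h => ha1 (Subtype.ext h)) w w.2
          ((sectionAut_fixed_iff (A := H) inf_le_left inf_le_right hWW (Subgroup.inclusion hAH a) w).mp hx))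
    (θ fH) (fun x hx => by
      rw [← map_mul] at hx
      induction x using QuotientGroup.induction_on with
      | H w =>
        exact (QuotientGroup.eq_one_iff w).mpr
          (hf2 w w.2 ((sectionAut_fixed_iff (A := H) inf_le_left inf_le_right hWW (fH * fH) w).mp hx)))
    (by rw [← map_mul, ← map_mul]; exact sectionAut_eq_one _ _ hf4)
  refine ⟨a, a.2, RankTwo.mem_of_sectionAut_eq_one (A := H) inf_le_left inf_le_right
    (a := (Subgroup.inclusion hAH a)⁻¹ * fH) ?_⟩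
  show θ _ = 1
  rw [map_mul, map_inv, inv_mul_eq_one]
  exact ha

theorem trivOn_or_inverts {W Z : Subgroup G} (hWW : ⁅W, W⁆ ≤ Z) (h9 : Z.relIndex W = 9)
    {A : Subgroup G} (hA : IsQEight A)
    (hAH : A ≤ normalizer (W : Set G) ⊓ normalizer (Z : Set G))
    (hinv : ∀ a ∈ A, a * a = 1 → a ≠ 1 → ∀ w ∈ W, ⁅a, w⁆ ∈ Z → w ∈ Z) {g : G}
    (hg : g ∈ normalizer (W : Set G) ⊓ normalizer (Z : Set G))
    (hcomm : ∀ a ∈ A, TrivOn W Z ⁅g, a⁆) :
    TrivOn W Z g ∨ ∀ w ∈ W, g * w * g⁻¹ * w ∈ Z := by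
  haveI := normal_subgroupOf_of_commutator_le hWW
  letI := sectionCommGroup hWW
  set H := normalizer (W : Set G) ⊓ normalizer (Z : Set G)
  let θ : H →* MulAut (W ⧸ Z.subgroupOf W) :=
    RankTwo.sectionAut (A := H) inf_le_left inf_le_right
  let gH : H := ⟨g, hg⟩
  rcases eq_one_or_inv_of_commute hA h9 (θ.comp (Subgroup.inclusion hAH))
    (fun a ha2 ha1 x hx => by
      induction x using QuotientGroup.induction_on with
      | H w =>
        refine (QuotientGroup.eq_one_iff w).mpr ?_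
        exact hinv a a.2 (congrArg Subtype.val ha2) (fun h => ha1 (Subtype.ext h)) w w.2
          ((sectionAut_fixed_iff (A := H) inf_le_left inf_le_right hWW (Subgroup.inclusion hAH a) w).mp hx))
    (θ gH) (fun a => by
      set aH : H := Subgroup.inclusion hAH a
      have h1 : θ ⁅gH, aH⁆ = 1 := sectionAut_eq_one _ _ (hcomm a a.2)
      show θ gH * θ aH = θ aH * θ gH
      calc θ gH * θ aH = θ (⁅gH, aH⁆ * (aH * gH)) := by
            rw [← map_mul]; congr 1; rw [commutatorElement_def]; group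
        _ = θ aH * θ gH := by rw [map_mul, h1, one_mul, map_mul]) with h | h
  · exact Or.inl (RankTwo.mem_of_sectionAut_eq_one (A := H) inf_le_left inf_le_right (a := gH) h)
  · refine Or.inr fun w hw => ?_
    have h1 := h ((⟨w, hw⟩ : W) : W ⧸ Z.subgroupOf W)
    rw [RankTwo.sectionAut_mk, ← mul_eq_one_iff_eq_inv, ← QuotientGroup.mk_mul,
      QuotientGroup.eq_one_iff, mem_subgroupOf] at h1
    exact h1

variable {p : ℕ} [Fact p.Prime] {E F : Subgroup G}

theorem commute_or_eq_of_two (hG : centralizer (pCore p G : Set G) ≤ pCore p G) (hp : p = 2)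
    (hE : IsBlock p E) (hF : IsBlock p F) (hEs : E.IsSubnormal) (hFs : F.IsSubnormal)
    (hsE : IsSmallBlock p E) (hsF : IsSmallBlock p F) (h : ⁅E, F⁆ ≤ pCore p G) :
    E = F ∨ ⁅E, F⁆ = ⊥ := by
  classical
  subst hp
  obtain ⟨-, hcE, hQW, hWE⟩ : 2 = 2 ∧ Nat.card (↥E ⧸ pCore 2 ↥E) = 3 ∧ bQ 2 E = bW 2 E ∧
      (bZ 2 E).relIndex (bW 2 E) = 4 := by
    rcases hsE with hh | ⟨h3, -⟩
    · exact hh
    · omega
  obtain ⟨-, hcF, hQWF, hWF⟩ : 2 = 2 ∧ Nat.card (↥F ⧸ pCore 2 ↥F) = 3 ∧ bQ 2 F = bW 2 F ∧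
      (bZ 2 F).relIndex (bW 2 F) = 4 := by
    rcases hsF with hh | ⟨h3, -⟩
    · exact hh
    · omega
  have hsE' : IsSmallBlock 2 E := Or.inl ⟨rfl, hcE, hQW, hWE⟩
  have hsF' : IsSmallBlock 2 F := Or.inl ⟨rfl, hcF, hQWF, hWF⟩
  have hzE := bZ_eq_bot hE hsE' hQW
  have hzF := bZ_eq_bot hF hsF' hQWF
  have hD := commutator_le_inf_bQ hE hF h
  set D := bQ 2 E ⊓ bQ 2 F
  rcases eq_or_ne D ⊥ with hbot | hne
  · exact Or.inr (le_bot_iff.mp (hbot ▸ hD))
  have hFE : F ≤ normalizer (E : Set G) := hE.le_normalizer_of_commutator_le h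
  have h' : ⁅F, E⁆ ≤ pCore 2 G := by rwa [commutator_comm]
  have hEF : E ≤ normalizer (F : Set G) := hF.le_normalizer_of_commutator_le h'
  have hDn : ∀ X : Subgroup G, X ≤ normalizer (E : Set G) → X ≤ normalizer (F : Set G) →
      X ≤ normalizer (D : Set G) := fun X h1 h2 => Coprime.le_normalizer_of_conj_mem fun y hy w hw =>
    ⟨(mem_normalizer_iff.mp ((le_normalizer_section (p := 2) E h1).1 hy) w).mp hw.1,
      (mem_normalizer_iff.mp ((le_normalizer_section (p := 2) F h2).1 hy) w).mp hw.2⟩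
  have hfull : ∀ X : Subgroup G, IsBlock 2 X → bQ 2 X = bW 2 X → bZ 2 X = ⊥ → D ≤ bQ 2 X →
      X ≤ normalizer (D : Set G) → D = bQ 2 X := by
    intro X hX hXW hXZ hle hn
    rcases hX.section_W.1 D (hXZ ▸ bot_le) (hXW ▸ hle) hn with h1 | h1
    · exact absurd (h1.trans hXZ) hne
    · exact h1.trans hXW.symm
  have hDE := hfull E hE hQW hzE inf_le_left (hDn E le_normalizer hEF)
  have hDF := hfull F hF hQWF hzF inf_le_right (hDn F hFE le_normalizer)
  have hQ : bQ 2 E = bQ 2 F := hDE.symm.trans hDF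
  -- every `p'`-element of `F` lies in `E O_p(G)`
  have hkey : ∀ X Y : Subgroup G, IsBlock 2 X → IsBlock 2 Y → X.IsSubnormal → Y.IsSubnormal →
      IsSmallBlock 2 X → IsSmallBlock 2 Y → bQ 2 X = bW 2 X → bQ 2 Y = bW 2 Y → bQ 2 X = bQ 2 Y →
      ⁅X, Y⁆ ≤ pCore 2 G → Nat.card (↥X ⧸ pCore 2 ↥X) = 3 → Nat.card (↥Y ⧸ pCore 2 ↥Y) = 3 →
      Y ≤ X ⊔ pCore 2 G := by
    intro X Y hX hY hXs hYs hsX hsY hXW hYW hXY hc hX3 hY3
    conv_lhs => rw [← hY.eq_closure]
    rw [closure_le]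
    rintro f ⟨hf, hfo⟩
    obtain ⟨x, hx, hxo, hxQ⟩ := hX.exists_coprime_not_mem
    by_cases hfQ : f ∈ bQ 2 Y
    · exact mem_sup_right ((bQ_eq hYs).le hfQ).2
    have hord : ∀ (Z : Subgroup G), IsSmallBlock 2 Z → Nat.card (↥Z ⧸ pCore 2 ↥Z) = 3 → ∀ z ∈ Z,
        (orderOf z).Coprime 2 → z ∉ bQ 2 Z → z * z * z = 1 := by
      intro Z hsZ hZ3 z hz hzo hzQ
      have := pow_orderOf_eq_one z
      have h1 : orderOf z ∣ 3 := by
        rw [hsZ.coprime_orderOf_iff hz hzo, ← hZ3]; exact orderOf_dvd_natCard _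
      have h2 := orderOf_dvd_iff_pow_eq_one.mp h1
      rw [← h2, pow_succ, pow_two]
    have hf3 := hord Y hsY hY3 f hf hfo hfQ
    have hx3 := hord X hsX hX3 x hx hxo hxQ
    -- both permute the three involutions of `Q` without fixed points
    have hnofix : ∀ (Z : Subgroup G), IsBlock 2 Z → IsSmallBlock 2 Z → bQ 2 Z = bW 2 Z →
        Nat.card (↥Z ⧸ pCore 2 ↥Z) = 3 → ∀ z ∈ Z, z ∉ bQ 2 Z → ∀ q ∈ bQ 2 Z, z * q = q * z → q = 1 := by
      intro Z hZ hsZ hZW hZ3 z hz hzQ q hq hzq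
      have hq' : q ∈ bZ 2 Z := by
        refine hZ.mem_bZ_of_centralizes hq (mem_centralizer_iff.mpr fun y hy => ?_)
        haveI := Fact.mk Nat.prime_three
        have hgen : QuotientGroup.mk' (pCore 2 ↥Z) ⟨y, hy⟩ ∈
            zpowers (QuotientGroup.mk' (pCore 2 ↥Z) ⟨z, hz⟩) :=
          mem_zpowers_of_prime_card hZ3 (fun h => hzQ ((mem_bQ_iff hz).mpr h))
        obtain ⟨k, hk⟩ := mem_zpowers_iff.mp hgen
        rw [← map_zpow] at hk
        have hr : (z ^ k)⁻¹ * y ∈ bQ 2 Z := ⟨_, QuotientGroup.eq.mp hk, by simp⟩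
        have h1 : Commute (z ^ k) q := (show Commute z q from hzq).zpow_left k
        have h2 : Commute ((z ^ k)⁻¹ * y) q := (commute_bW (hZW ▸ hr) hq).symm
        have := h1.mul_left h2
        rwa [mul_inv_cancel_left] at this
      rwa [bZ_eq_bot hZ hsZ hZW, Subgroup.mem_bot] at hq'
    obtain ⟨q0, hq0, hq01⟩ : ∃ q ∈ bQ 2 X, q ≠ 1 := by
      by_contra hcc
      push Not at hcc
      have : bQ 2 X = ⊥ := eq_bot_iff.mpr fun q hq => mem_bot.mpr (hcc q hq)
      rcases card_bQ hX hsX with ⟨-, h4⟩ | ⟨h3, -⟩ | ⟨h3, -⟩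
      · rw [this, card_bot] at h4; omega
      · omega
      · omega
    have hnX : ∀ y ∈ X, ∀ q ∈ bQ 2 X, y * q * y⁻¹ ∈ bQ 2 X := fun y hy q hq =>
      (mem_normalizer_iff.mp (bQ_normal X hy) q).mp hq
    have hnY : ∀ q ∈ bQ 2 X, f * q * f⁻¹ ∈ bQ 2 X := fun q hq =>
      hXY ▸ (mem_normalizer_iff.mp (bQ_normal Y hf) q).mp (hXY ▸ hq)
    set q1 := x * q0 * x⁻¹ with hq1
    set q2 := x * q1 * x⁻¹ with hq2
    have hx03 : x * q2 * x⁻¹ = q0 := by
      rw [hq2, hq1]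
      calc x * (x * (x * q0 * x⁻¹) * x⁻¹) * x⁻¹ = x * x * x * q0 * (x * x * x)⁻¹ := by group
        _ = q0 := by rw [hx3]; group
    have hq1m : q1 ∈ bQ 2 X := hnX x hx q0 hq0
    have hq2m : q2 ∈ bQ 2 X := hnX x hx q1 hq1m
    have hne' : ∀ (z : G), (∀ q ∈ bQ 2 X, z * q = q * z → q = 1) → ∀ q ∈ bQ 2 X, q ≠ 1 → z * q * z⁻¹ ≠ q :=
      fun z hz q hq hq1' he => hq1' (hz q hq (mul_inv_eq_iff_eq_mul.mp he))
    have hxn := hnofix X hX hsX hXW hX3 x hx hxQ
    have hfn := hXY.symm ▸ hnofix Y hY hsY hYW hY3 f hf hfQ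
    have hn1 : ∀ q : G, q ≠ 1 → ∀ z : G, z * q * z⁻¹ ≠ 1 := fun q hq z h => hq (conj_eq_one_iff.mp h)
    have h10 : q1 ≠ q0 := hne' x hxn q0 hq0 hq01
    have h11 : q1 ≠ 1 := hn1 q0 hq01 x
    have h21 : q2 ≠ 1 := hn1 q1 h11 x
    have h212 : q2 ≠ q1 := hne' x hxn q1 hq1m h11
    have h20 : q2 ≠ q0 := fun he => hne' x hxn q2 hq2m h21 (hx03.trans he.symm)
    have hall : ∀ q ∈ bQ 2 X, q = 1 ∨ q = q0 ∨ q = q1 ∨ q = q2 := by
      intro q hq
      by_contra hcon
      push Not at hcon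
      let s : Finset G := {q, 1, q0, q1, q2}
      have hs : s.card = 5 := by
        simp [s, hcon.1, hcon.2.1, hcon.2.2.1, hcon.2.2.2, Ne.symm hq01, Ne.symm h11, Ne.symm h21,
          Ne.symm h10, Ne.symm h20, Ne.symm h212]
      have hle : s.card ≤ Nat.card (bQ 2 X) := by
        rw [← Nat.card_eq_finsetCard]
        refine Nat.card_le_card_of_injective (fun y => (⟨y.1, ?_⟩ : bQ 2 X))
          fun a b hh => Subtype.ext (congrArg Subtype.val hh :)
        have := y.2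
        simp only [s, Finset.mem_insert, Finset.mem_singleton] at this
        rcases this with hh | hh | hh | hh | hh <;> rw [hh]
        exacts [hq, one_mem _, hq0, hq1m, hq2m]
      rcases card_bQ hX hsX with ⟨-, h4⟩ | ⟨h3, -⟩ | ⟨h3, -⟩ <;> omega
    -- choose the power of `x` agreeing with `f` at `q0`
    obtain ⟨e, he, heE, hee⟩ : ∃ e : G, e * q0 * e⁻¹ = f * q0 * f⁻¹ ∧ e ∈ X ∧
        e * (e * q0 * e⁻¹) * e⁻¹ = f * (f * q0 * f⁻¹) * f⁻¹ := by
      have hf0 := hne' f hfn q0 hq0 hq01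
      have hfm := hnY q0 hq0
      have hf01 : f * q0 * f⁻¹ ≠ 1 := hn1 q0 hq01 f
      have hf1 := hne' f hfn _ hfm hf01
      have hf3' : f * (f * q0 * f⁻¹) * f⁻¹ ≠ q0 := fun he => by
        refine hne' f hfn q0 hq0 hq01 ?_
        calc f * q0 * f⁻¹ = f * (f * (f * q0 * f⁻¹) * f⁻¹) * f⁻¹ := by rw [he]
          _ = f * f * f * q0 * (f * f * f)⁻¹ := by group
          _ = q0 := by rw [hf3]; group
      have hf2 : f * (f * q0 * f⁻¹) * f⁻¹ ≠ 1 := hn1 _ hf01 f
      rcases hall _ hfm with hh | hh | hh | hh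
      · exact absurd hh hf01
      · exact absurd hh hf0
      · refine ⟨x, hh.symm, hx, ?_⟩
        show x * q1 * x⁻¹ = _
        rw [← hq2]
        rcases hall _ (hnY _ hfm) with h' | h' | h' | h'
        · exact absurd h' hf2
        · exact absurd h' hf3'
        · exact absurd (h'.trans hh.symm) hf1
        · exact h'.symm
      · have e1 : x * x * q0 * (x * x)⁻¹ = q2 := by rw [hq2, hq1]; group
        refine ⟨x * x, e1.trans hh.symm, X.mul_mem hx hx, ?_⟩
        have h2 : x * x * q2 * (x * x)⁻¹ = q1 := by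
          calc x * x * q2 * (x * x)⁻¹ = x * (x * q2 * x⁻¹) * x⁻¹ := by group
            _ = q1 := by rw [hx03]
        rw [e1, h2]
        rcases hall _ (hnY _ hfm) with h' | h' | h' | h'
        · exact absurd h' hf2
        · exact absurd h' hf3'
        · exact h'.symm
        · exact absurd (h'.trans hh.symm) hf1
    set g := e⁻¹ * f with hg
    have hfix0 : g * q0 * g⁻¹ = q0 := by
      calc g * q0 * g⁻¹ = e⁻¹ * (f * q0 * f⁻¹) * e := by rw [hg]; group
        _ = q0 := by rw [← he]; group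
    have hfix1 : g * (e * q0 * e⁻¹) * g⁻¹ = e * q0 * e⁻¹ := by
      calc g * (e * q0 * e⁻¹) * g⁻¹ = e⁻¹ * (f * (e * q0 * e⁻¹) * f⁻¹) * e := by rw [hg]; group
        _ = e * q0 * e⁻¹ := by rw [show f * (e * q0 * e⁻¹) * f⁻¹ = _ from by rw [he], ← hee]; group
    let S : Subgroup G :=
      { carrier := {q | g * q * g⁻¹ = q}
        one_mem' := by simp
        mul_mem' := fun {a b} (ha : g * a * g⁻¹ = a) (hb : g * b * g⁻¹ = b) =>
          show g * (a * b) * g⁻¹ = a * b by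
            calc g * (a * b) * g⁻¹ = (g * a * g⁻¹) * (g * b * g⁻¹) := by group
              _ = a * b := by rw [ha, hb]
        inv_mem' := fun {a} (ha : g * a * g⁻¹ = a) => show g * a⁻¹ * g⁻¹ = a⁻¹ by
          calc g * a⁻¹ * g⁻¹ = (g * a * g⁻¹)⁻¹ := by group
            _ = a⁻¹ := by rw [ha] }
    have hSQ : bQ 2 X ≤ S := by
      have hle : closure {q0, e * q0 * e⁻¹} ≤ S ⊓ bQ 2 X := by
        rw [closure_le]
        rintro y (rfl | rfl)
        · exact ⟨hfix0, hq0⟩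
        · exact ⟨hfix1, hnX e heE q0 hq0⟩
      have h3 : 3 ≤ Nat.card ↥(S ⊓ bQ 2 X) := by
        let s : Finset G := {1, q0, e * q0 * e⁻¹}
        have hne2 : e * q0 * e⁻¹ ≠ q0 := he ▸ hne' f hfn q0 hq0 hq01
        have hs : s.card = 3 := by
          simp [s, Ne.symm hq01, Ne.symm (hn1 q0 hq01 e), Ne.symm hne2]
        rw [← hs, ← Nat.card_eq_finsetCard]
        refine Nat.card_le_card_of_injective (fun y => (⟨y.1, hle ?_⟩ : ↥(S ⊓ bQ 2 X)))
          fun a b hh => Subtype.ext (congrArg Subtype.val hh :)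
        have := y.2
        simp only [s, Finset.mem_insert, Finset.mem_singleton] at this
        rcases this with hh | hh | hh <;> rw [hh]
        exacts [one_mem _, subset_closure (Or.inl rfl), subset_closure (Or.inr rfl)]
      have hd : Nat.card ↥(S ⊓ bQ 2 X) ∣ Nat.card (bQ 2 X) := card_dvd_of_le inf_le_right
      have h4 : Nat.card (bQ 2 X) = 4 := by
        rcases card_bQ hX hsX with ⟨-, h4⟩ | ⟨h3', -⟩ | ⟨h3', -⟩ <;> omega
      have heq : Nat.card ↥(S ⊓ bQ 2 X) = 4 := by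
        rw [h4] at hd
        have := Nat.le_of_dvd (by norm_num) hd
        interval_cases h : Nat.card ↥(S ⊓ bQ 2 X)
        · norm_num at hd
        · rfl
      exact (eq_of_le_of_card_ge inf_le_right (by rw [h4, heq])).ge.trans inf_le_left
    have hgM : g ∈ moveSub 2 (bQ 2 X) := by
      refine mul_mem (inv_mem (hX.le_moveSub heE)) ?_
      rw [hXY]
      exact hY.le_moveSub hf
    have hgU : g ∈ pCore 2 G := by
      refine mem_pCore_of_trivial hG (q := 3) (by norm_num) (isPGroup_bQ X) hgM (fun k _ q hq => ?_) ?_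
      · have hk : g ∈ centralizer (bQ 2 X : Set G) :=
          mem_centralizer_iff.mpr fun y hy => (mul_inv_eq_iff_eq_mul.mp (hSQ hy)).symm
        exact mul_inv_eq_iff_eq_mul.mpr (mem_centralizer_iff.mp (pow_mem hk k) q hq).symm
      · refine ⟨1, ?_⟩
        have hπ : ∀ a ∈ X, ∀ b ∈ Y, QuotientGroup.mk' (pCore 2 G) a * QuotientGroup.mk' (pCore 2 G) b =
            QuotientGroup.mk' (pCore 2 G) b * QuotientGroup.mk' (pCore 2 G) a := fun a ha b hb => by
          rw [← commutatorElement_eq_one_iff_mul_comm, ← map_commutatorElement, QuotientGroup.mk'_apply,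
            QuotientGroup.eq_one_iff]
          exact hc (commutator_mem_commutator ha hb)
        have he3 : e⁻¹ * e⁻¹ * e⁻¹ ∈ pCore 2 G := by
          have : e * e * e ∈ bQ 2 X := by
            rw [mem_bQ_iff (X.mul_mem (X.mul_mem heE heE) heE)]
            have : (QuotientGroup.mk' (pCore 2 ↥X) ⟨e, heE⟩) ^ 3 = 1 := by
              rw [← hX3]; exact pow_card_eq_one'
            rw [← this, ← map_pow]
            congr 1
            exact Subtype.ext (by push_cast; rw [pow_succ, pow_two])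
          have h1 := (pCore 2 G).inv_mem ((bQ_eq hXs).le this).2
          convert h1 using 1
          group
        rw [pow_one, ← QuotientGroup.eq_one_iff, ← QuotientGroup.mk'_apply, map_pow, hg, map_mul,
          Commute.mul_pow (hπ _ (X.inv_mem heE) f hf), ← map_pow, ← map_pow]
        rw [show f ^ 3 = 1 by rw [← hf3, pow_succ, pow_two], map_one, mul_one, QuotientGroup.mk'_apply,
          QuotientGroup.eq_one_iff, pow_succ, pow_two]
        exact he3
    rw [show f = e * g by rw [hg]; group]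
    exact mul_mem (mem_sup_left heE) (mem_sup_right hgU)
  exact Or.inl (hE.eq_of_le_sup hF (hkey E F hE hF hEs hFs hsE' hsF' hQW hQWF hQ h hcE hcF)
    (hkey F E hF hE hFs hEs hsF' hsE' hQWF hQW hQ.symm h' hcF hcE))

/-- Two small blocks with a common element outside `O_p(G)` share `O_p`. -/
theorem bQ_le_of_common (hE : IsBlock p E) (hEs : E.IsSubnormal) (hF : IsBlock p F)
    (hEF : E ≤ normalizer (F : Set G)) {y : G} (hyE : y ∈ E) (hyF : y ∈ F) (hyQ : y ∉ bQ p E) :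
    bQ p E ≤ bQ p F := by
  obtain ⟨hirr, hfaith, -⟩ := hE.section_W
  obtain ⟨hQn, hWn, hZn⟩ := le_normalizer_section (p := p) E (le_normalizer (H := E))
  obtain ⟨hFQn, -, -⟩ := le_normalizer_section (p := p) F hEF
  set D := bQ p E ⊓ bQ p F
  have hDn : E ≤ normalizer (D : Set G) := Coprime.le_normalizer_of_conj_mem fun a ha w hw =>
    ⟨(mem_normalizer_iff.mp (hQn ha) w).mp hw.1, (mem_normalizer_iff.mp (hFQn ha) w).mp hw.2⟩
  have hU : bQ p E ≤ pCore p G := fun x hx => ((bQ_eq hEs).le hx).2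
  -- commutators with `y` lie in `D`
  have hmem : ∀ w ∈ bQ p E, y * w * y⁻¹ * w⁻¹ ∈ D := by
    intro w hw
    refine ⟨(bQ p E).mul_mem ((mem_normalizer_iff.mp (hQn hyE) w).mp hw) ((bQ p E).inv_mem hw), ?_⟩
    exact (hF.commutator_mem_bQ hyF (hU hw)).1
  have hsupn : ∀ A B : Subgroup G, E ≤ normalizer (A : Set G) → E ≤ normalizer (B : Set G) →
      E ≤ normalizer ((A ⊔ B : Subgroup G) : Set G) := fun A B hA hB =>
    (le_inf hA hB).trans (Components.normalizer_inf_le_normalizer_sup A B)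
  have hDWn : E ≤ normalizer ((D ⊓ bW p E : Subgroup G) : Set G) :=
    Coprime.le_normalizer_of_conj_mem fun a ha w hw =>
      ⟨(mem_normalizer_iff.mp (hDn ha) w).mp hw.1, (mem_normalizer_iff.mp (hWn ha) w).mp hw.2⟩
  have hW : bW p E ≤ D ⊔ bZ p E := by
    rcases hirr ((D ⊓ bW p E) ⊔ bZ p E) le_sup_right (sup_le inf_le_right inf_le_left)
      (hsupn _ _ hDWn hZn) with h | h
    · exfalso
      refine hyQ (hfaith y hyE fun w hw => h.le (mem_sup_left ⟨hmem w (bW_le E hw), ?_⟩))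
      exact (bW p E).mul_mem ((mem_normalizer_iff.mp (hWn hyE) w).mp hw) ((bW p E).inv_mem hw)
    · exact h.ge.trans (sup_le_sup inf_le_left le_rfl)
  have hQDZ : bQ p E ≤ D ⊔ bZ p E := by
    by_cases hQW : bQ p E = bW p E
    · exact hQW.le.trans hW
    · obtain ⟨-, ⟨hirr', hfaith', -⟩, -, -, -⟩ := hE.exceptional hQW
      rcases hirr' (D ⊔ bW p E) le_sup_right (sup_le inf_le_left (bW_le E)) (hsupn _ _ hDn hWn)
        with h | h
      · exact absurd (hfaith' y hyE fun w hw => h.le (mem_sup_left (hmem w hw))) hyQ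
      · exact h.ge.trans (sup_le le_sup_left hW)
  intro x hx
  rw [← hE.commutator_core] at hx
  refine (?_ : ⁅bQ p E, E⁆ ≤ D) hx |>.2
  rw [commutator_le]
  intro q hq e he
  have hq' : q ∈ (↑(D ⊔ bZ p E) : Set G) := hQDZ hq
  rw [coe_mul_of_right_le_normalizer_left D (bZ p E) (fun z hz => ?_)] at hq'
  · obtain ⟨d, hd, z, hz, rfl⟩ := hq'
    have h1 : ⁅d, e⁆ ∈ D := Coprime.commutator_le_of_le_normalizer hDn (commutator_mem_commutator hd he)
    convert h1 using 1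
    have h2 := mem_centralizer_iff.mp hz.2 e he
    calc ⁅d * z, e⁆ = d * (z * e) * z⁻¹ * d⁻¹ * e⁻¹ := by rw [commutatorElement_def]; group
      _ = ⁅d, e⁆ := by rw [← h2, commutatorElement_def]; group
  · rw [mem_normalizer_iff]
    intro w
    constructor
    · intro hw
      rw [← commute_bW hz.1 hw.1, mul_inv_cancel_right]
      exact hw
    · intro hw
      have hwQ : w ∈ bQ p E := by
        have := mul_mem (mul_mem (inv_mem (bW_le E hz.1)) hw.1) (bW_le E hz.1)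
        convert this using 1
        group
      rwa [← commute_bW hz.1 hwQ, mul_inv_cancel_right] at hw

/-- The exceptional block cannot have an operator inverting exactly one section. -/
theorem no_half_inversion (hG : centralizer (pCore p G : Set G) ≤ pCore p G)
    (hE : IsBlock p E) (hEs : E.IsSubnormal) (hsE : IsSmallBlock p E) (hp : p = 3)
    (hQW : bQ p E ≠ bW p E) {g : G} (hgn : g ∈ normalizer (E : Set G))
    (hgM : g ∈ moveSub p (bQ p E)) (hgo : (orderOf g).Coprime p)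
    (hW : TrivOn (bW p E) (bZ p E) g) (hinv : ∀ x ∈ bQ p E, g * x * g⁻¹ * x ∈ bW p E)
    (hπ : QuotientGroup.mk' (pCore p G) g ∈ pCore 2 (G ⧸ pCore p G)) : False := by
  classical
  subst hp
  obtain ⟨-, -, hder, -, T, hT, hquad⟩ := hE.exceptional hQW
  obtain ⟨hWi, hQi⟩ : (bZ 3 E).relIndex (bW 3 E) = 9 ∧ (bW 3 E).relIndex (bQ 3 E) = 9 := by
    rcases hsE with ⟨h2, -⟩ | ⟨-, -, hWi, hQi⟩
    · omega
    · exact ⟨hWi, (hQi.resolve_left hQW).1⟩
  obtain ⟨hQn, hWn, hZn⟩ := le_normalizer_section (p := 3) E (X := normalizer (E : Set G)) le_rfl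
  -- an element of the Baumann subgroup outside `C(W)`
  obtain ⟨b, hb, hbW⟩ : ∃ b ∈ baumannSubgroupOf 3 (T : Subgroup G),
      b ∉ centralizer (bW 3 E : Set G) := by
    by_contra hcc
    push Not at hcc
    have hEn : E ≤ normalizer (centralizer (bW 3 E : Set G) : Set G) :=
      Coprime.le_normalizer_of_conj_mem fun a ha c hc => by
        have haW := hWn (le_normalizer ha)
        rw [mem_centralizer_iff]
        intro w hw
        have h1 := mem_centralizer_iff.mp hc _ ((mem_normalizer_iff.mp (inv_mem haW) w).mp hw)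
        calc w * (a * c * a⁻¹) = a * (a⁻¹ * w * a⁻¹⁻¹ * c) * a⁻¹ := by group
          _ = a * c * a⁻¹ * w := by rw [h1]; group
    have hle : E ≤ centralizer (bW 3 E : Set G) := by
      conv_lhs => rw [← hT.2.1]
      refine (commutator_mono le_rfl hcc).trans ?_
      rw [commutator_comm]
      exact Coprime.commutator_le_of_le_normalizer hEn
    exact hE.section_W.2.2 (le_antisymm inf_le_left fun w hw => ⟨hw, mem_centralizer_iff.mpr
      fun e he => (mem_centralizer_iff.mp (hle he) w hw).symm⟩)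
  have hbn : b ∈ normalizer (E : Set G) := baumann_le_normalizer hT hb
  obtain ⟨m, hm⟩ : ∃ m : ℕ, b ^ 3 ^ m = 1 := by
    obtain ⟨m, hm⟩ := (T.2.to_le inf_le_left : IsPGroup 3 (baumannSubgroupOf 3 (T : Subgroup G))) ⟨b, hb⟩
    exact ⟨m, congrArg Subtype.val hm⟩
  set g' := b * g * b⁻¹ with hg'
  set h := g⁻¹ * g' with hh
  have hg'n : g' ∈ normalizer (E : Set G) := mul_mem (mul_mem hbn hgn) (inv_mem hbn)
  have hbQ := hQn hbn
  have hbWn := hWn hbn
  have hbZ := hZn hbn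
  have hg'M : g' ∈ moveSub 3 (bQ 3 E) := by
    refine ⟨hQn hg'n, fun u hu => ?_⟩
    have hu' : b⁻¹ * u * b⁻¹⁻¹ ∈ pCore 3 G := (inferInstance : (pCore 3 G).Normal).conj_mem u hu b⁻¹
    have h1 := (mem_normalizer_iff.mp hbQ _).mp (hgM.2 _ hu')
    convert h1 using 1
    rw [hg']; group
  have hg'W : TrivOn (bW 3 E) (bZ 3 E) g' := fun w hw => by
    have h1 := (mem_normalizer_iff.mp hbZ _).mp (hW _ ((mem_normalizer_iff.mp (inv_mem hbWn) w).mp hw))
    convert h1 using 1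
    rw [hg']; group
  have hg'inv : ∀ x ∈ bQ 3 E, g' * x * g'⁻¹ * x ∈ bW 3 E := fun x hx => by
    have h1 := (mem_normalizer_iff.mp hbWn _).mp (hinv _ ((mem_normalizer_iff.mp (inv_mem hbQ) x).mp hx))
    convert h1 using 1
    rw [hg']; group
  have hWW : ⁅bQ 3 E, bQ 3 E⁆ ≤ bW 3 E := hder.le.trans inf_le_left
  have hh1 : h ∈ trivSub (bQ 3 E) (bW 3 E) := by
    refine ⟨⟨hQn (mul_mem (inv_mem hgn) hg'n), hWn (mul_mem (inv_mem hgn) hg'n)⟩, fun x hx => ?_⟩
    set y := g' * x * g'⁻¹ with hy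
    set z := g⁻¹ * y * g⁻¹⁻¹ with hz
    have hyQ : y ∈ bQ 3 E := (mem_normalizer_iff.mp (hQn hg'n) x).mp hx
    have hzQ : z ∈ bQ 3 E := (mem_normalizer_iff.mp (inv_mem (hQn hgn)) y).mp hyQ
    have a1 : y * x ∈ bW 3 E := hg'inv x hx
    have a2 : y * z ∈ bW 3 E := by
      have := hinv z hzQ
      convert this using 1
      rw [hz]; group
    have a3 : x⁻¹ * z ∈ bW 3 E := by
      rw [show x⁻¹ * z = (y * x)⁻¹ * (y * z) by group]
      exact mul_mem (inv_mem a1) a2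
    have hxW : x * (x⁻¹ * z) * x⁻¹ ∈ bW 3 E := by
      rw [commute_bW a3 hx, mul_inv_cancel_right]; exact a3
    convert hxW using 1
    simp only [h, g', z, y]; group
  have hh2 : h ∈ trivSub (bW 3 E) (bZ 3 E) :=
    mul_mem (inv_mem ⟨⟨hWn hgn, hZn hgn⟩, hW⟩) ⟨⟨hWn hg'n, hZn hg'n⟩, hg'W⟩
  have hhU : h ∈ pCore 3 G := by
    refine mem_pCore_of_trivial hG (q := 2) (by norm_num) (isPGroup_bQ E)
      (mul_mem (inv_mem hgM) hg'M) (fun k hk => fix_of_trivOn hE hsE hk (pow_mem hh2 k).2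
        fun _ => (pow_mem hh1 k).2) (exists_pow_mem_pCore ?_)
    rw [hh, map_mul, map_inv, hg', map_mul, map_mul, map_inv]
    exact mul_mem (inv_mem hπ) ((inferInstance : (pCore 2 (G ⧸ pCore 3 G)).Normal).conj_mem _ hπ _)
  -- operators on `Q / Z`
  have hQQ : ⁅bQ 3 E, bQ 3 E⁆ ≤ bZ 3 E := hder.le
  haveI := normal_subgroupOf_of_commutator_le hQQ
  letI := sectionCommGroup hQQ
  set H := normalizer (bQ 3 E : Set G) ⊓ normalizer (bZ 3 E : Set G)
  let θ : H →* MulAut (bQ 3 E ⧸ (bZ 3 E).subgroupOf (bQ 3 E)) :=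
    RankTwo.sectionAut (A := H) inf_le_left inf_le_right
  let gH : H := ⟨g, hQn hgn, hZn hgn⟩
  let bH : H := ⟨b, hbQ, hbZ⟩
  let hH : H := gH⁻¹ * (bH * gH * bH⁻¹)
  have hg2 : TrivOn (bQ 3 E) (bZ 3 E) (g * g) := by
    have t1 : TrivOn (bQ 3 E) (bW 3 E) (g * g) := fun x hx => by
      set y := g * x * g⁻¹ with hy
      have hyQ : y ∈ bQ 3 E := (mem_normalizer_iff.mp (hQn hgn) x).mp hx
      have a1 : y * x ∈ bW 3 E := hinv x hx
      have a2 : g * y * g⁻¹ * y ∈ bW 3 E := hinv y hyQ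
      have := mul_mem a2 (inv_mem a1)
      have hc : y * (g * y * g⁻¹ * y) * y⁻¹ = g * y * g⁻¹ * y := by
        rw [commute_bW a2 hyQ, mul_inv_cancel_right]
      convert mul_mem a2 (show y⁻¹ * x⁻¹ ∈ bW 3 E by
        rw [show y⁻¹ * x⁻¹ = (x * y)⁻¹ by group]
        refine inv_mem ?_
        rw [show x * y = x * (y * x) * x⁻¹ by group, commute_bW a1 hx, mul_inv_cancel_right]
        exact a1) using 1
      rw [hy]; group
    have t2 : TrivOn (bW 3 E) (bZ 3 E) (g * g) :=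
      ((trivSub (bW 3 E) (bZ 3 E)).mul_mem ⟨⟨hWn hgn, hZn hgn⟩, hW⟩ ⟨⟨hWn hgn, hZn hgn⟩, hW⟩).2
    have ho : (orderOf (g * g)).Coprime 3 := by
      refine Nat.Coprime.coprime_dvd_left ?_ hgo
      rw [← sq]; exact orderOf_pow_dvd 2
    intro x hx
    rw [fix_of_trivOn hE hsE ho t2 (fun _ => t1) x hx, mul_inv_cancel]
    exact one_mem _
  have hA2 : θ gH * θ gH = 1 := by rw [← map_mul]; exact sectionAut_eq_one _ _ hg2
  have hc0 : θ ⁅gH, hH⁆ = 1 := by
    refine sectionAut_eq_one _ _ (fun x hx => ?_)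
    refine hQQ (commutator_mem_commutator ?_ hx)
    -- `⁅g, h⁆ ∈ Q`
    have h1 := hgM.2 h hhU
    have h2 : h * (h⁻¹ * (g * h * g⁻¹)) * h⁻¹ ∈ bQ 3 E :=
      (mem_normalizer_iff.mp (hQn (mul_mem (inv_mem hgn) hg'n)) _).mp h1
    show g * h * g⁻¹ * h⁻¹ ∈ bQ 3 E
    convert h2 using 1
    group
  have hη : θ hH = 1 := by
    have hAη : θ gH * θ hH = θ hH * θ gH := by
      calc θ gH * θ hH = θ (⁅gH, hH⁆ * (hH * gH)) := by
            rw [← map_mul]; congr 1; rw [commutatorElement_def]; group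
        _ = θ hH * θ gH := by rw [map_mul, hc0, one_mul, map_mul]
    have h2 : (θ gH * θ hH) * (θ gH * θ hH) = 1 := by
      have : θ gH * θ hH = θ bH * θ gH * (θ bH)⁻¹ := by
        simp only [hH, map_mul, map_inv, mul_inv_cancel_left]
      rw [this]
      calc θ bH * θ gH * (θ bH)⁻¹ * (θ bH * θ gH * (θ bH)⁻¹) = θ bH * (θ gH * θ gH) * (θ bH)⁻¹ := by
            group
        _ = 1 := by rw [hA2]; group
    have h3 : θ hH * θ hH = 1 := by
      calc θ hH * θ hH = (θ gH * θ gH) * (θ hH * θ hH) := by rw [hA2, one_mul]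
        _ = θ gH * (θ gH * θ hH) * θ hH := by group
        _ = θ gH * (θ hH * θ gH) * θ hH := by rw [hAη]
        _ = 1 := by rw [← h2]; group
    obtain ⟨k, hk⟩ := PSolvable.pCore_isPGroup (p := 3) ⟨h, hhU⟩
    have h4 : θ hH ^ 3 ^ k = 1 := by
      rw [← map_pow, show hH ^ 3 ^ k = 1 from Subtype.ext (show (g⁻¹ * (b * g * b⁻¹)) ^ 3 ^ k = 1 from congrArg Subtype.val hk), map_one]
    have h5 : orderOf (θ hH) ∣ 2 := orderOf_dvd_of_pow_eq_one (by rw [sq, h3])
    exact orderOf_eq_one_iff.mp (Nat.eq_one_of_dvd_coprimes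
      ((by norm_num : Nat.Coprime 3 2).pow_left k) (orderOf_dvd_of_pow_eq_one h4) h5)
  have hAB : θ gH * θ bH = θ bH * θ gH := by
    have : (θ gH)⁻¹ * (θ bH * θ gH * (θ bH)⁻¹) = 1 := by
      rw [← hη]; simp only [hH, map_mul, map_inv]
    calc θ gH * θ bH = θ gH * ((θ gH)⁻¹ * (θ bH * θ gH * (θ bH)⁻¹)) * θ bH := by rw [this]; group
      _ = θ bH * θ gH := by group
  -- cards
  have hQp : IsPGroup 3 (bQ 3 E ⧸ (bZ 3 E).subgroupOf (bQ 3 E)) :=
    (isPGroup_bQ (p := 3) E).to_quotient _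
  have h81 : Nat.card (bQ 3 E ⧸ (bZ 3 E).subgroupOf (bQ 3 E)) = 81 := by
    show (bZ 3 E).relIndex (bQ 3 E) = 81
    rw [← relIndex_mul_relIndex _ _ _ (bZ_le E) (bW_le E), hWi, hQi]
  set Wi := ((bW 3 E).subgroupOf (bQ 3 E)).map (QuotientGroup.mk' ((bZ 3 E).subgroupOf (bQ 3 E)))
  have hWii : Wi.index = 9 := by
    rw [index_map_eq _ (QuotientGroup.mk'_surjective _) (by
      rw [QuotientGroup.ker_mk']; exact fun x hx => hx.1)]
    exact hQi
  have hWic : Nat.card Wi = 9 := by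
    have := Wi.card_mul_index
    rw [hWii, h81] at this
    omega
  let P₁ : Subgroup (bQ 3 E ⧸ (bZ 3 E).subgroupOf (bQ 3 E)) :=
    MonoidHom.eqLocus (θ gH).toMonoidHom (MonoidHom.id _)
  let P₂ : Subgroup (bQ 3 E ⧸ (bZ 3 E).subgroupOf (bQ 3 E)) :=
    MonoidHom.eqLocus (θ gH).toMonoidHom invMonoidHom
  have hsq : ∀ (U : Subgroup G) (x : G), x ∈ bQ 3 E → x * x ∈ U → x ∈ U := fun U x hx h2 => by
    obtain ⟨k, hk⟩ := IsPGroup.iff_orderOf.mp (isPGroup_bQ (p := 3) E) ⟨x, hx⟩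
    rw [orderOf_mk] at hk
    obtain ⟨j, hj⟩ := exists_pow_eq_self_of_coprime (n := 2) (x := x)
      (by rw [hk]; exact Nat.Coprime.pow_right k (by norm_num))
    rw [← hj, sq]; exact pow_mem h2 j
  have hP1 : P₁ ≤ Wi := by
    intro y hy
    induction y using QuotientGroup.induction_on with
    | H x =>
      have h1 : ⁅g, (x : G)⁆ ∈ bW 3 E :=
        ((sectionAut_fixed_iff _ _ hQQ gH x).mp hy).1
      refine ⟨x, ?_, rfl⟩
      rw [SetLike.mem_coe, mem_subgroupOf]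
      refine hsq _ x x.2 ?_
      have a1 := hinv x x.2
      rw [show (x : G) * x = (x : G) * ((g * x * g⁻¹ * (x : G)⁻¹)⁻¹ * (g * x * g⁻¹ * x)) * (x : G)⁻¹ by group]
      have a2 : (g * x * g⁻¹ * (x : G)⁻¹)⁻¹ * (g * x * g⁻¹ * x) ∈ bW 3 E :=
        mul_mem (inv_mem h1) a1
      rw [commute_bW a2 x.2, mul_inv_cancel_right]
      exact a2
  have hP2 : Function.Injective (fun y : P₂ => (QuotientGroup.mk' Wi) (y : bQ 3 E ⧸ _)) := by
    intro y y' hyy
    have h1 : (y : bQ 3 E ⧸ (bZ 3 E).subgroupOf (bQ 3 E))⁻¹ * (y' : _) ∈ Wi := QuotientGroup.eq.mp hyy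
    have h2 : (y : bQ 3 E ⧸ (bZ 3 E).subgroupOf (bQ 3 E))⁻¹ * (y' : _) ∈ P₂ :=
      mul_mem (inv_mem y.2) y'.2
    obtain ⟨w, hw, hwe⟩ := h1
    rw [← hwe] at h2
    rw [SetLike.mem_coe, mem_subgroupOf] at hw
    have h3 := hW w hw
    have e1 : θ gH (QuotientGroup.mk' _ w) = QuotientGroup.mk' _ w :=
      (sectionAut_fixed_iff _ _ hQQ gH w).mpr h3
    have e2 : θ gH (QuotientGroup.mk' _ w) = (QuotientGroup.mk' _ w)⁻¹ := h2
    have e3 : (QuotientGroup.mk' ((bZ 3 E).subgroupOf (bQ 3 E)) (w * w)) = 1 := by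
      rw [map_mul]; nth_rewrite 2 [e1.symm.trans e2]; rw [mul_inv_cancel]
    have e4 : (w : G) ∈ bZ 3 E := hsq (bZ 3 E) w w.2 ((QuotientGroup.eq_one_iff (w * w)).mp e3)
    have e5 : (y : bQ 3 E ⧸ (bZ 3 E).subgroupOf (bQ 3 E))⁻¹ * (y' : _) = 1 := by
      rw [← hwe]; exact (QuotientGroup.eq_one_iff w).mpr e4
    exact Subtype.ext (inv_mul_eq_one.mp e5)
  have hq : ∀ y, θ bH (θ bH y / y) = θ bH y / y := quadratic_of_commute hQp (θ gH) (θ bH) hA2
    ⟨m, by rw [← map_pow, show bH ^ 3 ^ m = 1 from Subtype.ext hm, map_one]⟩ hAB P₁ P₂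
    (fun _ => Iff.rfl) (fun _ => Iff.rfl) ((card_le_of_le hP1).trans hWic.le)
    ((Nat.card_le_card_of_injective _ hP2).trans (le_of_eq ((index_eq_card Wi).symm.trans hWii)))
  refine hquad b hb hbW ?_
  let K : Subgroup G :=
    { carrier := {x | ∃ hx : x ∈ bQ 3 E, θ bH ((⟨x, hx⟩ : bQ 3 E) : bQ 3 E ⧸ _) = ((⟨x, hx⟩ : bQ 3 E) : bQ 3 E ⧸ (bZ 3 E).subgroupOf (bQ 3 E))}
      one_mem' := ⟨one_mem _, map_one _⟩
      mul_mem' := fun {x y} ⟨hx, hx'⟩ ⟨hy, hy'⟩ => ⟨mul_mem hx hy, by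
        show θ bH (((⟨x, hx⟩ : bQ 3 E) : bQ 3 E ⧸ (bZ 3 E).subgroupOf (bQ 3 E)) * ((⟨y, hy⟩ : bQ 3 E) : _)) = _
        rw [map_mul, hx', hy']; rfl⟩
      inv_mem' := fun {x} ⟨hx, hx'⟩ => ⟨inv_mem hx, by
        show θ bH (((⟨x, hx⟩ : bQ 3 E) : bQ 3 E ⧸ (bZ 3 E).subgroupOf (bQ 3 E))⁻¹) = _
        rw [map_inv, hx']; rfl⟩ }
  have hKfix : ∀ x ∈ K, ∀ n : ℕ, ⁅x, b ^ n⁆ ∈ bZ 3 E := by
    rintro x ⟨hx, hx'⟩ n
    have h1 : (θ bH ^ n) ((⟨x, hx⟩ : bQ 3 E) : bQ 3 E ⧸ _) = ((⟨x, hx⟩ : bQ 3 E) : bQ 3 E ⧸ (bZ 3 E).subgroupOf (bQ 3 E)) := by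
      induction n with
      | zero => simp
      | succ n ih => rw [pow_succ', MulAut.mul_apply, ih, hx']
    rw [← map_pow] at h1
    have h2 := (sectionAut_fixed_iff _ _ hQQ (bH ^ n) ⟨x, hx⟩).mp h1
    rw [← commutatorElement_inv]
    exact inv_mem (by simpa using h2)
  have hbk : ∀ c ∈ zpowers b, ∃ n : ℕ, b ^ n = c := fun c hc =>
    Submonoid.mem_powers_iff _ _ |>.mp (mem_powers_iff_mem_zpowers.mpr hc)
  have hstep : ⁅bQ 3 E, zpowers b⁆ ≤ K := by
    rw [commutator_le]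
    intro x hx c hc
    obtain ⟨n, rfl⟩ := hbk c hc
    have hmem : ⁅x, b ^ n⁆ ∈ bQ 3 E := by
      have := mul_mem hx ((mem_normalizer_iff.mp (pow_mem hbQ n) _).mp (inv_mem hx))
      convert this using 1
      rw [commutatorElement_def]; group
    refine ⟨hmem, ?_⟩
    set y : bQ 3 E ⧸ (bZ 3 E).subgroupOf (bQ 3 E) := ((⟨x, hx⟩ : bQ 3 E) : bQ 3 E ⧸ (bZ 3 E).subgroupOf (bQ 3 E))
    have hdec : ((⟨⁅x, b ^ n⁆, hmem⟩ : bQ 3 E) : bQ 3 E ⧸ (bZ 3 E).subgroupOf (bQ 3 E)) =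
        y / (θ bH ^ n) y := by
      rw [← map_pow, div_eq_mul_inv]
      show _ = _ * (RankTwo.sectionAut (A := H) inf_le_left inf_le_right (bH ^ n) y)⁻¹
      rw [RankTwo.sectionAut_mk, ← QuotientGroup.mk_inv, ← QuotientGroup.mk_mul]
      congr 1
      refine Subtype.ext ?_
      simp only [bH, commutatorElement_def, Subgroup.coe_mul, InvMemClass.coe_inv, Coprime.conjAut_coe, SubgroupClass.coe_pow]
      group
    rw [hdec]
    have hpow : ∀ k : ℕ, (θ bH ^ k) y = y * (θ bH y / y) ^ k := by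
      intro k
      induction k with
      | zero => simp
      | succ k ih =>
        rw [pow_succ', MulAut.mul_apply, ih, map_mul, map_pow, hq y, pow_succ',
          ← mul_assoc, mul_comm y, div_mul_cancel]
    rw [hpow n, div_mul_eq_div_div, div_self', map_div, map_one, map_pow, hq y]
  rw [commutator_le]
  intro x hx c hc
  obtain ⟨n, rfl⟩ := hbk c hc
  exact hKfix x (hstep hx) n

/-- Mutually normalising small blocks, `p = 3`. -/
theorem le_sup_of_common (hG : centralizer (pCore p G : Set G) ≤ pCore p G) (hp : p = 3)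
    (hE : IsBlock p E) (hF : IsBlock p F) (hEs : E.IsSubnormal) (hFs : F.IsSubnormal)
    (hsE : IsSmallBlock p E) (hsF : IsSmallBlock p F) (hEF : E ≤ normalizer (F : Set G))
    (hFE : F ≤ normalizer (E : Set G)) {y : G} (hyE : y ∈ E) (hyF : y ∈ F)
    (hyo : (orderOf y).Coprime p) (hyQ : y ∉ pCore p G) : F ≤ E ⊔ pCore p G := by
  classical
  have hyQE : y ∉ bQ p E := fun h => hyQ ((bQ_eq hEs).le h).2
  have hyQF : y ∉ bQ p F := fun h => hyQ ((bQ_eq hFs).le h).2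
  have hQ : bQ p E = bQ p F := le_antisymm (bQ_le_of_common hE hEs hF hEF hyE hyF hyQE)
    (bQ_le_of_common hF hFs hE hFE hyF hyE hyQF)
  have hW : bW p E = bW p F := congrArg (omegaOneCenter p) hQ
  have hZ : bZ p E = bZ p F := by
    by_cases hQW : bQ p E = bW p E
    · rw [bZ_eq_bot hE hsE hQW, bZ_eq_bot hF hsF (by rw [← hQ, ← hW, hQW])]
    · obtain ⟨-, -, h1, -, -⟩ := hE.exceptional hQW
      obtain ⟨-, -, h2, -, -⟩ := hF.exceptional (by rw [← hQ, ← hW]; exact hQW)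
      rw [← h1, ← h2, hQ]
  obtain ⟨hE8, hWi⟩ : IsQEight (↥E ⧸ pCore p ↥E) ∧ (bZ p E).relIndex (bW p E) = 9 := by
    rcases hsE with ⟨h2, -⟩ | ⟨-, h8, h9, -⟩
    · omega
    · exact ⟨h8, h9⟩
  have hF8 : IsQEight (↥F ⧸ pCore p ↥F) := by
    rcases hsF with ⟨h2, -⟩ | ⟨-, h8, -⟩
    · omega
    · exact h8
  have hfour : ∀ {X : Subgroup G}, IsQEight (↥X ⧸ pCore p ↥X) → ∀ x ∈ X, x * x * (x * x) ∈ bQ p X := by
    intro X h8 x hx
    rw [mem_bQ_iff (X.mul_mem (X.mul_mem hx hx) (X.mul_mem hx hx)), ← h8.2.1 (QuotientGroup.mk' _ ⟨x, hx⟩),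
      ← map_pow]
    congr 1
    exact Subtype.ext (by push_cast; simp only [pow_succ, pow_zero, one_mul, mul_assoc])
  -- the common involution
  obtain ⟨j, hjE, hjF, hj2, hjQ⟩ : ∃ j, j ∈ E ∧ j ∈ F ∧ j * j ∈ bQ p E ∧ j ∉ bQ p E := by
    by_cases h : y * y ∈ bQ p E
    · exact ⟨y, hyE, hyF, h, hyQE⟩
    · exact ⟨y * y, E.mul_mem hyE hyE, F.mul_mem hyF hyF, hfour hE8 y hyE, h⟩
  -- complement of `E`
  obtain ⟨A, hAE, hAc, -, hAQ, -, hrep⟩ := hsE.exists_complement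
  have hA8 : IsQEight A := by
    let ι : A →* ↥E ⧸ pCore p ↥E := (QuotientGroup.mk' _).comp (Subgroup.inclusion hAE)
    have hinj : Function.Injective ι := (injective_iff_map_eq_one ι).mpr fun a ha => by
      have : (a : G) ∈ A ⊓ bQ p E := ⟨a.2, (mem_bQ_iff (hAE a.2)).mpr ha⟩
      rw [hAQ, Subgroup.mem_bot] at this
      exact Subtype.ext this
    exact isQEight_of_equiv (MulEquiv.ofBijective ι
      ((Nat.bijective_iff_injective_and_card ι).mpr ⟨hinj, hAc⟩)) hE8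
  obtain ⟨hQn, hWn, hZn⟩ := le_normalizer_section (p := p) E (X := normalizer (E : Set G)) le_rfl
  have hAH : A ≤ normalizer (bW p E : Set G) ⊓ normalizer (bZ p E : Set G) :=
    le_inf (hAE.trans (le_normalizer.trans hWn)) (hAE.trans (le_normalizer.trans hZn))
  have hAinv : ∀ a ∈ A, a * a = 1 → a ≠ 1 → a ∈ E ∧ a * a ∈ bQ p E ∧ a ∉ bQ p E :=
    fun a ha h2 h1 => ⟨hAE ha, by rw [h2]; exact one_mem _, fun h => h1 (by
      have : a ∈ A ⊓ bQ p E := ⟨ha, h⟩
      rwa [hAQ, Subgroup.mem_bot] at this)⟩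
  conv_lhs => rw [← hF.eq_closure]
  rw [closure_le]
  rintro f ⟨hf, hfo⟩
  have hfn : f ∈ normalizer (E : Set G) := hFE hf
  by_cases hf2 : f * f ∈ bQ p F
  · by_cases hfQ : f ∈ bQ p F
    · exact mem_sup_right ((bQ_eq hFs).le hfQ).2
    · have h1 := hsF.invol_unique hp hjF hf (hQ ▸ hj2) hf2 (hQ ▸ hjQ) hfQ
      rw [show f = j * (j⁻¹ * f) by group]
      exact mul_mem (mem_sup_left hjE) (mem_sup_right ((bQ_eq hFs).le h1).2)
  have hff4 := hfour hF8 f hf
  obtain ⟨hfixW, hfixQ⟩ := hsF.involution_fixed hF hp (F.mul_mem hf hf) hff4 hf2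
  obtain ⟨a, ha, hag⟩ := exists_trivOn_inv_mul (commutator_bW_le E) hWi hA8 hAH
    (fun a ha h2 h1 => by
      obtain ⟨b1, b2, b3⟩ := hAinv a ha h2 h1
      exact (hsE.involution_fixed hE hp b1 b2 b3).1)
    (f := f) ⟨hWn hfn, hZn hfn⟩
    (fun w hw h => by rw [hW] at hw; rw [hZ] at h ⊢; exact hfixW w hw h)
    (trivOn_of_mem_bQ E (hQ ▸ hff4))
  set g0 := a⁻¹ * f with hg0
  have hg0n : g0 ∈ normalizer (E : Set G) := mul_mem (inv_mem (le_normalizer (hAE ha))) hfn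
  have hg0M : g0 ∈ moveSub p (bQ p E) :=
    mul_mem (inv_mem (hE.le_moveSub (hAE ha))) (hQ.symm ▸ hF.le_moveSub hf)
  have hg0π : QuotientGroup.mk' (pCore p G) g0 ∈ pCore 2 (G ⧸ pCore p G) := by
    rw [hg0, map_mul, map_inv]
    exact mul_mem (inv_mem (image_le_pCore_two hEs hE8 ⟨a, hAE ha, rfl⟩))
      (image_le_pCore_two hFs hF8 ⟨f, hf, rfl⟩)
  suffices hgU : g0 ∈ pCore p G by
    rw [show f = a * g0 by rw [hg0]; group]
    exact mul_mem (mem_sup_left (hAE ha)) (mem_sup_right hgU)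
  have hg0W : g0 ∈ trivSub (bW p E) (bZ p E) := ⟨⟨hWn hg0n, hZn hg0n⟩, hag⟩
  refine mem_pCore_of_trivial hG (q := 2) (by rw [hp]; norm_num) (isPGroup_bQ E) hg0M
    (fun k hk => fix_of_trivOn hE hsE hk (pow_mem hg0W k).2 fun hQW => ?_) (exists_pow_mem_pCore hg0π)
  set g := g0 ^ k with hg
  obtain ⟨-, ⟨-, hfaith', -⟩, hder, -, -⟩ := hE.exceptional hQW
  have hgn : g ∈ normalizer (E : Set G) := pow_mem hg0n k
  have hgW : TrivOn (bW p E) (bZ p E) g := (pow_mem hg0W k).2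
  obtain ⟨-, hfaith, -⟩ := hE.section_W
  have hQi : (bW p E).relIndex (bQ p E) = 9 := by
    rcases hsE with ⟨h2, -⟩ | ⟨-, -, -, h⟩
    · omega
    · exact (h.resolve_left hQW).1
  rcases trivOn_or_inverts (hder.le.trans inf_le_left) hQi hA8
    (le_inf (hAE.trans (le_normalizer.trans hQn)) (hAE.trans (le_normalizer.trans hWn)))
    (fun a ha h2 h1 => by
      obtain ⟨b1, b2, b3⟩ := hAinv a ha h2 h1
      exact (hsE.involution_fixed hE hp b1 b2 b3).2 hQW)
    (g := g) ⟨hQn hgn, hWn hgn⟩ (fun x hx => by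
      have hmE : ⁅g, x⁆ ∈ E := by
        rw [commutatorElement_def]
        exact mul_mem ((mem_normalizer_iff.mp hgn x).mp (hAE hx)) (inv_mem (hAE hx))
      have hmT : ⁅g, x⁆ ∈ trivSub (bW p E) (bZ p E) := by
        have hT : g ∈ trivSub (bW p E) (bZ p E) := pow_mem hg0W k
        rw [commutatorElement_def, show g * x * g⁻¹ * x⁻¹ = g * (x * g⁻¹ * x⁻¹) by group]
        refine mul_mem hT ⟨mul_mem (mul_mem (hAH hx) (inv_mem hT.1)) (inv_mem (hAH hx)), fun w hw => ?_⟩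
        have hw' : x⁻¹ * w * x⁻¹⁻¹ ∈ bW p E := (mem_normalizer_iff.mp (inv_mem (hAH hx)).1 w).mp hw
        have h1 := (mem_normalizer_iff.mp (hAH hx).2 _).mp ((inv_mem hT).2 _ hw')
        convert h1 using 1
        group
      exact fun q hq => (hder.le (commutator_mem_commutator (hfaith _ hmE hmT.2) hq)).1)
    with h | h
  · exact h
  · exact (no_half_inversion hG hE hEs hsE hp hQW hgn (pow_mem hg0M k) hk hgW h
      (by rw [hg, map_pow]; exact pow_mem hg0π k)).elim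

end Cfsg.Agent.Lib.BTBlock.Sub
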