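import Cfsg.Agent.Lib.RankTwo.Main
import Cfsg.Agent.Lib.Coprime.Sylow

/-!
# Operators on an abelian section: Schur's lemma and fixed points
-/

set_option autoImplicit false

namespace Cfsg.Agent.Lib.BTBlock.Sub

open Subgroup
open scoped commutatorElement

universe u

/-- Endomorphisms commuting with an irreducible set of operators commute with each other. -/
theorem commute_of_centralizes_irred {V : Type*} [AddCommGroup V] [Finite V]
    (S : Set (AddMonoid.End V))
    (hirr : ∀ A : AddSubgroup V, (∀ s ∈ S, ∀ v ∈ A, s v ∈ A) → A = ⊥ ∨ A = ⊤)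
    {a b : AddMonoid.End V} (ha : ∀ s ∈ S, s * a = a * s) (hb : ∀ s ∈ S, s * b = b * s) :
    a * b = b * a := by
  let R : Subring (AddMonoid.End V) := Subring.centralizer S
  haveI : Finite (AddMonoid.End V) := Finite.of_injective (fun f : AddMonoid.End V => (f : V → V))
    DFunLike.coe_injective
  rcases subsingleton_or_nontrivial V with h | h
  · exact DFunLike.ext _ _ fun v => Subsingleton.elim _ _
  haveI : Nontrivial R := ⟨0, 1, fun he => by
    obtain ⟨v, hv⟩ := exists_ne (0 : V)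
    have := DFunLike.congr_fun (congrArg Subtype.val he) v
    exact hv this.symm⟩
  haveI : NoZeroDivisors R := ⟨fun {x y} hxy => by
    let K : AddSubgroup V :=
      { carrier := {v | x.1 v = 0}
        zero_mem' := map_zero x.1
        add_mem' := fun {u v} hu hv => by
          show x.1 (u + v) = 0
          rw [map_add, show x.1 u = 0 from hu, show x.1 v = 0 from hv, add_zero]
        neg_mem' := fun {u} hu => by
          show x.1 (-u) = 0
          rw [map_neg, show x.1 u = 0 from hu, neg_zero] }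
    rcases hirr K (fun s hs v hv => by
        show x.1 (s v) = 0
        refine (DFunLike.congr_fun (x.2 s hs) v).symm.trans ?_
        show s (x.1 v) = 0
        rw [show x.1 v = 0 from hv, map_zero]) with h0 | h0
    · right
      refine Subtype.ext (DFunLike.ext _ _ fun v => ?_)
      have : y.1 v ∈ K := DFunLike.congr_fun (congrArg Subtype.val hxy) v
      rw [h0, AddSubgroup.mem_bot] at this
      exact this
    · left
      refine Subtype.ext (DFunLike.ext _ _ fun v => ?_)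
      have : v ∈ K := h0 ▸ AddSubgroup.mem_top v
      exact this⟩
  haveI : IsDomain R := NoZeroDivisors.to_isDomain R
  have hcomm := (Finite.isDomain_to_isField R).mul_comm
    ⟨a, Subring.mem_centralizer_iff.mpr ha⟩ ⟨b, Subring.mem_centralizer_iff.mpr hb⟩
  exact congrArg Subtype.val hcomm

/-- A group automorphism as an additive endomorphism. -/
def autEnd {V : Type*} [CommGroup V] : MulAut V →* AddMonoid.End (Additive V) where
  toFun f := MonoidHom.toAdditive f.toMonoidHom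
  map_one' := rfl
  map_mul' _ _ := rfl

theorem autEnd_injective {V : Type*} [CommGroup V] : Function.Injective (autEnd (V := V)) :=
  fun _ _ h => MulEquiv.ext fun v => congrArg Additive.toMul (DFunLike.congr_fun h (Additive.ofMul v))

variable {G : Type u} [Group G]

/-- `x` acts trivially on the section `W / Z`. -/
def TrivOn (W Z : Subgroup G) (x : G) : Prop := ∀ w ∈ W, x * w * x⁻¹ * w⁻¹ ∈ Z

theorem trivOn_iff_conj {W Z : Subgroup G} {x : G} :
    TrivOn W Z x ↔ ∀ w ∈ W, ⁅x, w⁆ ∈ Z := Iff.rfl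

theorem normal_subgroupOf_of_commutator_le {W Z : Subgroup G} (hWW : ⁅W, W⁆ ≤ Z) :
    (Z.subgroupOf W).Normal := by
  refine ⟨fun z hz w => ?_⟩
  rw [mem_subgroupOf] at hz ⊢
  have h1 : ⁅(w : G), (z : G)⁆ ∈ Z := hWW (commutator_mem_commutator w.2 z.2)
  simpa [commutatorElement_def, mul_assoc] using Z.mul_mem h1 hz

theorem sectionAut_eq_one {A W Z : Subgroup G} (hW : A ≤ normalizer (W : Set G))
    (hZ : A ≤ normalizer (Z : Set G)) [(Z.subgroupOf W).Normal] {a : A}
    (h : TrivOn W Z (a : G)) : RankTwo.sectionAut hW hZ a = 1 := by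
  refine MulEquiv.ext fun x => ?_
  induction x using QuotientGroup.induction_on with
  | H w =>
    rw [RankTwo.sectionAut_mk, MulAut.one_apply, ← mul_inv_eq_one, ← QuotientGroup.mk_inv,
      ← QuotientGroup.mk_mul, QuotientGroup.eq_one_iff, mem_subgroupOf]
    exact h w w.2

variable [Finite G] {W Z : Subgroup G}

/-- Elements commuting, modulo the kernel, with an irreducible group of operators of an abelian
section have their commutators in the kernel. -/
theorem trivOn_commutator (hWW : ⁅W, W⁆ ≤ Z) {A B : Subgroup G}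
    (hAW : A ≤ normalizer (W : Set G)) (hAZ : A ≤ normalizer (Z : Set G))
    (hBW : B ≤ normalizer (W : Set G)) (hBZ : B ≤ normalizer (Z : Set G)) (hZW : Z ≤ W)
    (hirr : ∀ S : Subgroup G, Z ≤ S → S ≤ W → A ≤ normalizer (S : Set G) → S = Z ∨ S = W)
    (hcomm : ∀ a ∈ A, ∀ b ∈ B, TrivOn W Z ⁅a, b⁆) {b₁ b₂ : G} (hb₁ : b₁ ∈ B) (hb₂ : b₂ ∈ B) :
    TrivOn W Z ⁅b₁, b₂⁆ := by
  haveI := normal_subgroupOf_of_commutator_le hWW
  letI : CommGroup (W ⧸ Z.subgroupOf W) :=
    { (inferInstance : Group (W ⧸ Z.subgroupOf W)) with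
      mul_comm := fun x y => by
        induction x using QuotientGroup.induction_on with
        | H a =>
          induction y using QuotientGroup.induction_on with
          | H b =>
            refine QuotientGroup.eq.mpr ?_
            rw [mem_subgroupOf]
            have h := hWW (commutator_mem_commutator (W.inv_mem b.2) (W.inv_mem a.2))
            simpa [commutatorElement_def, mul_assoc] using h }
  set H := normalizer (W : Set G) ⊓ normalizer (Z : Set G) with hH
  have hHW : H ≤ normalizer (W : Set G) := inf_le_left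
  have hHZ : H ≤ normalizer (Z : Set G) := inf_le_right
  let θ : H →* AddMonoid.End (Additive (W ⧸ Z.subgroupOf W)) :=
    autEnd.comp (RankTwo.sectionAut hHW hHZ)
  let A' : Subgroup H := A.subgroupOf H
  have hAH : A ≤ H := le_inf hAW hAZ
  have hBH : B ≤ H := le_inf hBW hBZ
  have hmul : ∀ x y : H, TrivOn W Z ((⁅x, y⁆ : H) : G) → θ x * θ y = θ y * θ x := by
    intro x y h
    have h1 : θ ⁅x, y⁆ = 1 := by
      show autEnd (RankTwo.sectionAut hHW hHZ ⁅x, y⁆) = 1
      rw [sectionAut_eq_one hHW hHZ h, map_one]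
    calc θ x * θ y = θ (⁅x, y⁆ * (y * x)) := by
          rw [← map_mul]; congr 1; rw [commutatorElement_def]; group
      _ = θ y * θ x := by rw [map_mul, h1, one_mul, map_mul]
  have key : θ ⟨b₁, hBH hb₁⟩ * θ ⟨b₂, hBH hb₂⟩ = θ ⟨b₂, hBH hb₂⟩ * θ ⟨b₁, hBH hb₁⟩ := by
    refine commute_of_centralizes_irred (Set.range fun a : A => θ ⟨a, hAH a.2⟩) ?_ ?_ ?_
    · intro D hD
      let S : Subgroup G :=
        { carrier := {w | ∃ hw : w ∈ W, Additive.ofMul ((⟨w, hw⟩ : W) : W ⧸ Z.subgroupOf W) ∈ D}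
          one_mem' := ⟨W.one_mem, D.zero_mem⟩
          mul_mem' := fun {x y} ⟨hx, hx'⟩ ⟨hy, hy'⟩ => ⟨W.mul_mem hx hy, D.add_mem hx' hy'⟩
          inv_mem' := fun {x} ⟨hx, hx'⟩ => ⟨W.inv_mem hx, D.neg_mem hx'⟩ }
      have hmem : ∀ (w : G) (hw : w ∈ W), w ∈ S ↔
          Additive.ofMul ((⟨w, hw⟩ : W) : W ⧸ Z.subgroupOf W) ∈ D :=
        fun w hw => ⟨fun ⟨_, h⟩ => h, fun h => ⟨hw, h⟩⟩
      have hZS : Z ≤ S := fun z hz => (hmem z (hZW hz)).mpr (by
        rw [show ((⟨z, hZW hz⟩ : W) : W ⧸ Z.subgroupOf W) = 1 from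
          (QuotientGroup.eq_one_iff _).mpr hz]
        exact D.zero_mem)
      rcases hirr S hZS (fun w hw => hw.1) (Coprime.le_normalizer_of_conj_mem fun a ha w hw => by
          obtain ⟨hw, hw'⟩ := hw
          exact (hmem _ _).mpr (hD _ ⟨⟨a, ha⟩, rfl⟩ _ hw')) with h | h
      · refine Or.inl (eq_bot_iff.mpr fun v hv => ?_)
        obtain ⟨w, hw⟩ := QuotientGroup.mk_surjective (Additive.toMul v)
        have hwS : (w : G) ∈ S := (hmem _ w.2).mpr (by rw [Subtype.coe_eta, hw]; exact hv)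
        rw [h] at hwS
        rw [AddSubgroup.mem_bot]
        have h1 : Additive.toMul v = 1 := hw ▸ (QuotientGroup.eq_one_iff w).mpr hwS
        exact Additive.toMul.injective h1
      · refine Or.inr (eq_top_iff.mpr fun v _ => ?_)
        obtain ⟨w, hw⟩ := QuotientGroup.mk_surjective (Additive.toMul v)
        have := (hmem _ w.2).mp (h.ge w.2)
        rw [Subtype.coe_eta, hw] at this
        exact this
    · rintro _ ⟨a, rfl⟩
      exact hmul _ _ (hcomm a a.2 b₁ hb₁)
    · rintro _ ⟨a, rfl⟩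
      exact hmul _ _ (hcomm a a.2 b₂ hb₂)
  refine RankTwo.mem_of_sectionAut_eq_one hHW hHZ
    (a := (⁅(⟨b₁, hBH hb₁⟩ : H), ⟨b₂, hBH hb₂⟩⁆ : H)) (autEnd_injective ?_)
  rw [map_one]
  show θ ⁅(⟨b₁, hBH hb₁⟩ : H), ⟨b₂, hBH hb₂⟩⁆ = 1
  rw [commutatorElement_def, map_mul, map_mul, map_mul, key]
  calc θ ⟨b₂, _⟩ * θ ⟨b₁, _⟩ * θ ⟨b₁, _⟩⁻¹ * θ ⟨b₂, _⟩⁻¹
      = θ ⟨b₂, hBH hb₂⟩ * (θ ⟨b₁, hBH hb₁⟩ * θ (⟨b₁, hBH hb₁⟩ : H)⁻¹) * θ (⟨b₂, hBH hb₂⟩ : H)⁻¹ := by
        simp only [mul_assoc]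
    _ = 1 := by rw [← map_mul, mul_inv_cancel, map_one, mul_one, ← map_mul, mul_inv_cancel, map_one]

omit [Finite G] in
/-- An element of an irreducible section fixed by an invariant, nontrivially acting set lies in the
bottom. -/
theorem mem_of_fixed {F : Subgroup G} (hFW : F ≤ normalizer (W : Set G))
    (hFZ : F ≤ normalizer (Z : Set G)) (hWW : ⁅W, W⁆ ≤ Z) (hZW : Z ≤ W)
    (hirr : ∀ S : Subgroup G, Z ≤ S → S ≤ W → F ≤ normalizer (S : Set G) → S = Z ∨ S = W)
    {J : Set G} (hJF : J ⊆ F)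
    (hJ : ∀ y ∈ F, ∀ j ∈ J, ∃ j' ∈ J, TrivOn W Z (j'⁻¹ * (y * j * y⁻¹)))
    (hne : ∃ j ∈ J, ¬ TrivOn W Z j) {x : G} (hx : x ∈ W) (hfix : ∀ j ∈ J, ⁅j, x⁆ ∈ Z) : x ∈ Z := by
  have hZn : ∀ w ∈ W, ∀ z ∈ Z, w * z * w⁻¹ ∈ Z := fun w hw z hz => by
    have h1 : ⁅w, z⁆ ∈ Z := hWW (commutator_mem_commutator hw (hZW hz))
    simpa [commutatorElement_def, mul_assoc] using Z.mul_mem h1 hz
  let S : Subgroup G :=
    { carrier := {w | w ∈ W ∧ ∀ j ∈ J, j * w * j⁻¹ * w⁻¹ ∈ Z}
      one_mem' := ⟨W.one_mem, fun j _ => by simp [Z.one_mem]⟩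
      mul_mem' := fun {a b} ha hb => ⟨W.mul_mem ha.1 hb.1, fun j hj => by
        have hja : j * a * j⁻¹ ∈ W := (mem_normalizer_iff.mp (hFW (hJF hj)) a).mp ha.1
        have h1 := Z.mul_mem (hZn _ hja _ (hb.2 j hj)) (ha.2 j hj)
        convert h1 using 1
        group⟩
      inv_mem' := fun {a} ha => ⟨W.inv_mem ha.1, fun j hj => by
        have h1 := hZn _ (W.inv_mem ha.1) _ (Z.inv_mem (ha.2 j hj))
        convert h1 using 1
        group⟩ }
  have hS : F ≤ normalizer (S : Set G) := Coprime.le_normalizer_of_conj_mem fun y hy w hw => by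
    refine ⟨(mem_normalizer_iff.mp (hFW hy) w).mp hw.1, fun j hj => ?_⟩
    obtain ⟨j', hj', ht⟩ := hJ y⁻¹ (F.inv_mem hy) j hj
    set t := j'⁻¹ * (y⁻¹ * j * y⁻¹⁻¹) with htdef
    have hn : ∀ z ∈ Z, y * z * y⁻¹ ∈ Z := fun z hz => (mem_normalizer_iff.mp (hFZ hy) z).mp hz
    have hjn : ∀ z ∈ Z, j' * z * j'⁻¹ ∈ Z :=
      fun z hz => (mem_normalizer_iff.mp (hFZ (hJF hj')) z).mp hz
    have h1 := hn _ (Z.mul_mem (hjn _ (ht w hw.1)) (hw.2 j' hj'))
    convert h1 using 1
    rw [htdef]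
    group
  rcases hirr S (fun z hz => ⟨hZW hz, fun j hj => Z.mul_mem
    ((mem_normalizer_iff.mp (hFZ (hJF hj)) z).mp hz) (Z.inv_mem hz)⟩) (fun w hw => hw.1) hS with h | h
  · exact h.le ⟨hx, hfix⟩
  · obtain ⟨j, hj, hnt⟩ := hne
    exact absurd (fun w hw => (h.ge hw).2 j hj) hnt

/-- A `p'`-element moving `x` by an element it centralises does not move it. -/
theorem fix_of_step {p : ℕ} [Fact p.Prime] {P : Subgroup G} (hP : IsPGroup p P) {g x r : G}
    (hg : (orderOf g).Coprime p) (hstep : g * x * g⁻¹ = x * r) (hc : g * r * g⁻¹ = r) (hr : r ∈ P) :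
    g * x * g⁻¹ = x := by
  have hk : ∀ k : ℕ, g ^ k * x * (g ^ k)⁻¹ = x * r ^ k := by
    intro k
    induction k with
    | zero => simp
    | succ k ih =>
      have hcr : g * r ^ k * g⁻¹ = r ^ k := by
        rw [← conj_pow, hc]
      calc g ^ (k + 1) * x * (g ^ (k + 1))⁻¹ = g * (g ^ k * x * (g ^ k)⁻¹) * g⁻¹ := by
            rw [pow_succ']; group
        _ = (g * x * g⁻¹) * (g * r ^ k * g⁻¹) := by rw [ih]; group
        _ = x * r ^ (k + 1) := by rw [hstep, hcr, pow_succ', mul_assoc]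
  have h1 := hk (orderOf g)
  rw [pow_orderOf_eq_one, one_mul, inv_one, mul_one] at h1
  have h2 : r ^ orderOf g = 1 := by
    have := congrArg (x⁻¹ * ·) h1.symm
    simpa using this
  obtain ⟨k, hk'⟩ := IsPGroup.iff_orderOf.mp hP ⟨r, hr⟩
  rw [orderOf_mk] at hk'
  have hd : orderOf r ∣ orderOf g := orderOf_dvd_of_pow_eq_one h2
  rw [hk'] at hd
  have h3 : orderOf r = 1 := hk'.trans (Nat.eq_one_of_dvd_coprimes (hg.pow_right k) hd dvd_rfl)
  rw [hstep, orderOf_eq_one_iff.mp h3, mul_one]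

end Cfsg.Agent.Lib.BTBlock.Sub
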