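import Cfsg.Agent.Lib.BTBlock.Sub.Transport
import Cfsg.Agent.Lib.BTBlock.Sub.SectionOps
import Cfsg.Agent.Lib.LinGroup.BlockDiag
import Cfsg.Agent.Lib.CharTwo.Basic
import Cfsg.Agent.S2427

/-!
# Structure of a single block
-/

set_option autoImplicit false

namespace Cfsg.Agent.Lib.BTBlock.Sub

open Subgroup Cfsg
open scoped commutatorElement

universe u

variable {G : Type u} [Group G] {p : ℕ}

/-- `O_p` of the block. -/
abbrev bQ (p : ℕ) (E : Subgroup G) : Subgroup G := pCoreOf p E

/-- `Ω₁(Z(O_p))` of the block. -/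
abbrev bW (p : ℕ) (E : Subgroup G) : Subgroup G := omegaOneCenter p (pCoreOf p E)

/-- The fixed points of the block on `bW`. -/
abbrev bZ (p : ℕ) (E : Subgroup G) : Subgroup G := bW p E ⊓ centralizer (E : Set G)

/-- A block (for some Sylow subgroup). -/
def IsBlock (p : ℕ) (E : Subgroup G) : Prop :=
  ∃ T : Sylow p G, IsBaumannBlock p (T : Subgroup G) E

/-- Irreducibility and faithfulness modulo `O_p(E)` on a section. -/
def SectionOK (p : ℕ) (E U Z : Subgroup G) : Prop :=
  (∀ S : Subgroup G, Z ≤ S → S ≤ U → E ≤ normalizer (S : Set G) → S = Z ∨ S = U) ∧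
    (∀ e ∈ E, TrivOn U Z e → e ∈ bQ p E) ∧ Z ≠ U

/-- The group of the quotient in the small exceptional case. -/
def IsQEight (K : Type*) [Group K] : Prop :=
  Nat.card K = 8 ∧ (∀ x : K, x ^ 4 = 1) ∧
    (∀ x y : K, x * x = 1 → y * y = 1 → x ≠ 1 → y ≠ 1 → x = y) ∧ ∃ x y : K, x * y ≠ y * x

/-- The two solvable kinds of block. -/
def IsSmallBlock (p : ℕ) (E : Subgroup G) : Prop :=
  (p = 2 ∧ Nat.card (↥E ⧸ pCore p ↥E) = 3 ∧ bQ p E = bW p E ∧ (bZ p E).relIndex (bW p E) = 4) ∨
    (p = 3 ∧ IsQEight (↥E ⧸ pCore p ↥E) ∧ (bZ p E).relIndex (bW p E) = 9 ∧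
      (bQ p E = bW p E ∨
        (bW p E).relIndex (bQ p E) = 9 ∧ Nat.card ↥(E ⊓ centralizer (E : Set G)) = 3))

theorem relIndex_eq_card_of_hom {U Z : Subgroup G} {M : Type*} [Group M] (ψ : U →* M)
    (hψ : ∀ u : U, ψ u = 1 ↔ (u : G) ∈ Z) : Z.relIndex U = Nat.card ψ.range := by
  rw [relIndex, show Z.subgroupOf U = ψ.ker from Subgroup.ext fun u => (hψ u).symm, index_ker]

theorem relIndex_of_sl2 {F : Type*} [Field F] [Fintype F]
    {R : Subgroup (Matrix.SpecialLinearGroup (Fin 2) F)} {E U Z : Subgroup G}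
    (h : ActsAsSL2OnSection F R E U Z) : Z.relIndex U = Fintype.card F ^ 2 := by
  obtain ⟨-, -, ρ, ψ, -, hs, hk, -⟩ := h
  rw [relIndex_eq_card_of_hom ψ hk, MonoidHom.range_eq_top.mpr hs, card_top,
    Nat.card_congr Multiplicative.toAdd, Nat.card_fun, Nat.card_eq_fintype_card, Nat.card_fin]

theorem card_evenWeight (m : ℕ) :
    Nat.card {v : Fin (2 * m + 1) → ZMod 2 // ∑ i, v i = 0} = 2 ^ (2 * m) := by
  have e : {v : Fin (2 * m + 1) → ZMod 2 // ∑ i, v i = 0} ≃ (Fin (2 * m) → ZMod 2) :=
    { toFun := fun v i => v.1 i.castSucc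
      invFun := fun w => ⟨Fin.snoc w (-∑ i, w i), by simp [Fin.sum_univ_castSucc, CharTwo.add_self_eq_zero]⟩
      left_inv := fun v => by
        refine Subtype.ext (funext fun i => ?_)
        refine Fin.lastCases ?_ (fun j => ?_) i
        · have := v.2
          rw [Fin.sum_univ_castSucc] at this
          simp [neg_eq_of_add_eq_zero_right this]
        · simp
      right_inv := fun w => by funext i; simp }
  rw [Nat.card_congr e, Nat.card_fun, Nat.card_zmod, Nat.card_fin]

theorem relIndex_of_perm {m : ℕ} {R : Subgroup (Equiv.Perm (Fin (2 * m + 1)))} {E U Z : Subgroup G}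
    (h : ActsAsOddPermModuleOnSection (2 * m + 1) R E U Z) : Z.relIndex U = 2 ^ (2 * m) := by
  obtain ⟨-, -, ρ, ψ, -, hev, hs, hk, -⟩ := h
  rw [relIndex_eq_card_of_hom ψ hk, ← card_evenWeight m]
  refine Nat.card_congr
    { toFun := fun x => ⟨Multiplicative.toAdd x.1, by
        obtain ⟨u, hu⟩ := x.2
        exact hu ▸ hev u⟩
      invFun := fun v => ⟨Multiplicative.ofAdd v.1, by
        obtain ⟨u, hu⟩ := hs v.1 v.2
        exact ⟨u, by rw [← hu]; rfl⟩⟩
      left_inv := fun _ => rfl
      right_inv := fun _ => rfl }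

theorem isQEight_commutator_SL2 {F : Type*} [Field F] [Fintype F] (hF : Fintype.card F = 3) :
    IsQEight ↥(commutator (Matrix.SpecialLinearGroup (Fin 2) F)) := by
  classical
  have e : F ≃+* ZMod 3 :=
    (ZMod.ringEquivOfPrime F Nat.prime_three hF).symm
  set es := Matrix.SpecialLinearGroup.map (n := Fin 2) e.toRingHom with hes
  have hinj : Function.Injective es := fun a b h => by
    refine Matrix.SpecialLinearGroup.ext _ _ fun i j => e.injective ?_
    exact congrFun (congrFun (congrArg Subtype.val h) i) j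
  have hsurj : Function.Surjective es := fun b => by
    refine ⟨Matrix.SpecialLinearGroup.map e.symm.toRingHom b, ?_⟩
    refine Matrix.SpecialLinearGroup.ext _ _ fun i j => ?_
    exact e.apply_symm_apply _
  have hmap : (commutator (Matrix.SpecialLinearGroup (Fin 2) F)).map es =
      commutator S2427.G3 := by
    rw [_root_.commutator_def, _root_.commutator_def, map_commutator, map_top_of_surjective _ hsurj]
  let iso := ((commutator (Matrix.SpecialLinearGroup (Fin 2) F)).equivMapOfInjective es hinj).trans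
    (MulEquiv.subgroupCongr hmap)
  obtain ⟨-, -, h8, ⟨q⟩, -, -⟩ := S2427.result
  let k := iso.trans q
  have hq : (∀ x : QuaternionGroup 2, x ^ 4 = 1) ∧
      (∀ x y : QuaternionGroup 2, x * x = 1 → y * y = 1 → x ≠ 1 → y ≠ 1 → x = y) ∧
      ∃ x y : QuaternionGroup 2, x * y ≠ y * x := by decide
  refine ⟨by rw [Nat.card_congr iso.toEquiv]; exact h8, fun x => k.injective (by
      rw [map_pow, hq.1, map_one]), fun x y hx hy hx1 hy1 => k.injective ?_, ?_⟩
  · refine hq.2.1 _ _ (by rw [← map_mul, hx, map_one]) (by rw [← map_mul, hy, map_one]) ?_ ?_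
    · simpa using hx1
    · simpa using hy1
  · obtain ⟨x, y, hxy⟩ := hq.2.2
    exact ⟨k.symm x, k.symm y, fun h => hxy (by simpa using congrArg k h)⟩

theorem isQEight_of_equiv {K K' : Type*} [Group K] [Group K'] (k : K ≃* K') (h : IsQEight K') :
    IsQEight K := by
  obtain ⟨h8, h4, hu, x, y, hxy⟩ := h
  refine ⟨by rw [Nat.card_congr k.toEquiv, h8], fun a => k.injective (by rw [map_pow, h4, map_one]),
    fun a b ha hb ha1 hb1 => k.injective ?_, k.symm x, k.symm y, fun h => hxy (by simpa using congrArg k h)⟩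
  refine hu _ _ (by rw [← map_mul, ha, map_one]) (by rw [← map_mul, hb, map_one]) ?_ ?_
  · simpa using ha1
  · simpa using hb1

theorem isQuasisimple_of_simple_perfect {K : Type*} [Group K] [IsSimpleGroup K]
    (hK : commutator K = ⊤) : IsQuasisimple K := by
  have hp : Group.IsPerfect K := Group.isPerfect_def.2 hK
  refine ⟨hp, ?_⟩
  rcases (inferInstance : (center K).Normal).eq_bot_or_eq_top with hc | hc
  · haveI : Nontrivial (K ⧸ center K) := by
      rw [hc]; exact (QuotientGroup.quotientBot (G := K)).toEquiv.nontrivial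
    exact IsSimpleGroup.isSimpleGroup_of_surjective (QuotientGroup.mk' (center K))
      (QuotientGroup.mk'_surjective _)
  · exfalso
    have : commutator K = ⊥ := by
      rw [_root_.commutator_def, commutator_eq_bot_iff_le_centralizer]
      intro x _
      rw [mem_centralizer_iff]
      intro y _
      exact mem_center_iff.mp (hc.ge (mem_top x)) y
    exact bot_ne_top (this.symm.trans hK)

theorem quasisimple_of_equiv {K K' : Type*} [Group K] [Group K'] (k : K ≃* K')
    (h : IsQuasisimple K') : IsQuasisimple K := Components.quasisimple_of_mulEquiv k.symm h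

variable [Finite G] [Fact p.Prime] {E : Subgroup G}

theorem IsBlock.conj (hE : IsBlock p E) (g : G) : IsBlock p (E.map (MulAut.conj g).toMonoidHom) :=
  exists_block_conj hE g

theorem IsBlock.residual (hE : IsBlock p E) : pResidualOf p E = E := hE.choose_spec.1

theorem IsBlock.commutator_core (hE : IsBlock p E) : ⁅bQ p E, E⁆ = bQ p E := hE.choose_spec.2.2.1

theorem IsBlock.section_W (hE : IsBlock p E) : SectionOK p E (bW p E) (bZ p E) :=
  block_section hE.choose_spec

theorem IsBlock.pCore_le_normalizer (hE : IsBlock p E) :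
    pCore p G ≤ normalizer (E : Set G) :=
  BTBlock.pCore_le_normalizer hE.choose_spec

theorem bQ_normal (E : Subgroup G) : E ≤ normalizer (bQ p E : Set G) :=
  Amalgam.le_normalizer_pCoreOf p E

theorem bW_le (E : Subgroup G) : bW p E ≤ bQ p E := (omegaOneCenter_props p _).1

theorem bW_central (E : Subgroup G) : bW p E ≤ centralizer (bQ p E : Set G) :=
  (omegaOneCenter_props p _).2.1

theorem commute_bW {E : Subgroup G} {w q : G} (hw : w ∈ bW p E) (hq : q ∈ bQ p E) :
    q * w = w * q := mem_centralizer_iff.mp (bW_central E hw) q hq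

theorem commutator_bW_le (E : Subgroup G) : ⁅bW p E, bW p E⁆ ≤ bZ p E := by
  rw [commutator_le]
  intro a ha b hb
  rw [commutatorElement_eq_one_iff_mul_comm.mpr (commute_bW hb (bW_le E ha))]
  exact one_mem _

/-- The exceptional structure of a block with nonabelian `O_p`. -/
theorem IsBlock.exceptional (hE : IsBlock p E) (hne : bQ p E ≠ bW p E) :
    p = 3 ∧ SectionOK p E (bQ p E) (bW p E) ∧ ⁅bQ p E, bQ p E⁆ = bZ p E ∧
      E ⊓ centralizer (E : Set G) = bZ p E ∧
      ∃ (T : Sylow p G), IsBaumannBlock p (T : Subgroup G) E ∧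
        ∀ b ∈ baumannSubgroupOf p (T : Subgroup G), b ∉ centralizer (bW p E : Set G) →
          ¬ ⁅⁅bQ p E, zpowers b⁆, zpowers b⁆ ≤ bZ p E := by
  obtain ⟨T, hT⟩ := hE
  rcases hT.2.2.2.2 with ⟨F, i1, i2, n, hc, ⟨iso⟩, -, hex⟩ | ⟨-, m, -, -, hQW⟩
  · rcases hex with hQW | ⟨hp, hact, hder, -, hcent, -, hquad⟩
    · exact absurd hQW hne
    · refine ⟨hp, ?_, hder, hcent, T, hT, fun b hb hbW => by
        show ¬ _ ≤ omegaOneCenter p (pCoreOf p E) ⊓ centralizer (E : Set G)
        rw [← hcent]; exact hquad b hb hbW⟩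
      obtain ⟨hEU, hle, ρ, ψ, hr, hsurj, hψ, hequiv⟩ := hact
      refine section_facts_of_hom hEU ρ
        (fun k v => ((k : Matrix.SpecialLinearGroup (Fin 2) F) : Matrix (Fin 2) (Fin 2) F).mulVec v)
        ψ hψ hequiv ?_ (by rw [hr]; exact (Nat.card_congr iso.toEquiv).symm) ?_ ?_ ?_
      · intro q hq u hu
        have h1 : ⁅q, u⁆ ∈ bZ p E := hder.le (commutator_mem_commutator hq hu)
        exact h1.1
      · intro k _ h
        refine Matrix.SpecialLinearGroup.ext _ _ fun i j => ?_
        obtain ⟨u, hu⟩ := hsurj (Multiplicative.ofAdd (Pi.single j 1))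
        have := congrFun (h u) i
        rw [hu] at this
        simpa [Matrix.one_apply, Pi.single_apply] using this
      · intro A _ hA
        rcases addSubgroup_eq_bot_or_top A (fun g hg v hv => hA g (hr.ge hg) v hv) with h | h
        · exact Or.inl fun v hv => by simpa [h] using hv
        · exact Or.inr fun u => h ▸ AddSubgroup.mem_top _
      · obtain ⟨u, hu⟩ := hsurj (Multiplicative.ofAdd (Pi.single 0 1))
        refine ⟨u, fun h => ?_⟩
        rw [h] at hu
        have := congrFun (congrArg Multiplicative.toAdd hu) 0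
        simp at this
  · exact absurd hQW hne

theorem card_commutator_SL2_two {F : Type*} [Field F] [Fintype F] (hF : Fintype.card F = 2) :
    Nat.card ↥(commutator (Matrix.SpecialLinearGroup (Fin 2) F)) = 3 := by
  classical
  have e : F ≃+* ZMod 2 :=
    (ZMod.ringEquivOfPrime F Nat.prime_two hF).symm
  set es := Matrix.SpecialLinearGroup.map (n := Fin 2) e.toRingHom with hes
  have hinj : Function.Injective es := fun a b h => by
    refine Matrix.SpecialLinearGroup.ext _ _ fun i j => e.injective ?_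
    exact congrFun (congrFun (congrArg Subtype.val h) i) j
  have hsurj : Function.Surjective es := fun b => by
    refine ⟨Matrix.SpecialLinearGroup.map e.symm.toRingHom b, ?_⟩
    refine Matrix.SpecialLinearGroup.ext _ _ fun i j => ?_
    exact e.apply_symm_apply _
  have hmap : (commutator (Matrix.SpecialLinearGroup (Fin 2) F)).map es =
      commutator (Matrix.SpecialLinearGroup (Fin 2) (ZMod 2)) := by
    rw [_root_.commutator_def, _root_.commutator_def, map_commutator, map_top_of_surjective _ hsurj]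
  rw [← Subgroup.card_map_of_injective hinj, hmap]
  let C : Subgroup (Matrix.SpecialLinearGroup (Fin 2) (ZMod 2)) :=
    { carrier := {g | g ^ 3 = 1}
      mul_mem' := fun {a b} ha hb => by
        revert a b
        decide
      one_mem' := one_pow _
      inv_mem' := fun {a} (ha : a ^ 3 = 1) => show (a⁻¹) ^ 3 = 1 by rw [inv_pow, ha, inv_one] }
  have h1 : (∀ a b : Matrix.SpecialLinearGroup (Fin 2) (ZMod 2), (a * b * a⁻¹ * b⁻¹) ^ 3 = 1) ∧
      (∀ g : Matrix.SpecialLinearGroup (Fin 2) (ZMod 2), g ^ 3 = 1 →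
        ∃ a b : Matrix.SpecialLinearGroup (Fin 2) (ZMod 2), g = a * b * a⁻¹ * b⁻¹) ∧
      Fintype.card {g : Matrix.SpecialLinearGroup (Fin 2) (ZMod 2) // g ^ 3 = 1} = 3 := by
    decide
  have hC : commutator (Matrix.SpecialLinearGroup (Fin 2) (ZMod 2)) = C := by
    refine le_antisymm ?_ fun g hg => ?_
    · rw [_root_.commutator_def, commutator_le]
      exact fun a _ b _ => h1.1 a b
    · obtain ⟨a, b, e⟩ := h1.2.1 g hg
      rw [e, _root_.commutator_def]
      exact commutator_mem_commutator (mem_top a) (mem_top b)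
  rw [hC]
  show Nat.card {g : Matrix.SpecialLinearGroup (Fin 2) (ZMod 2) // g ^ 3 = 1} = 3
  rw [Nat.card_eq_fintype_card]
  exact h1.2.2

/-- Every block is quasisimple or small modulo `O_p`. -/
theorem IsBlock.kind (hE : IsBlock p E) :
    IsQuasisimple (↥E ⧸ pCore p ↥E) ∨ IsSmallBlock p E := by
  classical
  obtain ⟨T, hT⟩ := hE
  have hp : p.Prime := Fact.out
  rcases hT.2.2.2.2 with ⟨F, i1, i2, n, hc, ⟨iso⟩, hact, hex⟩ | ⟨rfl, m, ⟨iso⟩, hact, hQW⟩
  · have h1 : 1 < Fintype.card F := Fintype.one_lt_card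
    have hn : n ≠ 0 := fun h => by rw [h, pow_zero] at hc; omega
    rcases Nat.lt_or_ge (Fintype.card F) 4 with h4 | h4
    · right
      have hle : p ≤ Fintype.card F := hc ▸ Nat.le_self_pow hn p
      have hn1 : n = 1 := by
        by_contra h
        have h2 : p ^ 2 ≤ p ^ n := Nat.pow_le_pow_right hp.pos (by omega)
        have : 4 ≤ p ^ 2 := Nat.pow_le_pow_left hp.two_le 2
        omega
      rw [hn1, pow_one] at hc
      rcases (show Fintype.card F = 2 ∨ Fintype.card F = 3 by omega) with h | h
      · obtain rfl : p = 2 := hc.symm.trans h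
        refine Or.inl ⟨rfl, ?_, ?_, (relIndex_of_sl2 hact).trans (by rw [h]; norm_num)⟩
        · rw [Nat.card_congr iso.toEquiv, card_commutator_SL2_two h]
        · rcases hex with hex | ⟨h3, -⟩
          · exact hex
          · omega
      · obtain rfl : p = 3 := hc.symm.trans h
        refine Or.inr ⟨rfl, isQEight_of_equiv iso (isQEight_commutator_SL2 h),
          (relIndex_of_sl2 hact).trans (by rw [h]; norm_num), ?_⟩
        rcases hex with hex | ⟨-, hact', -, -, -, hcard, -⟩
        · exact Or.inl hex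
        · exact Or.inr ⟨(relIndex_of_sl2 hact').trans (by rw [h]; norm_num), by rw [hcard, hn1, pow_one]⟩
    · left
      have htop : commutator (Matrix.SpecialLinearGroup (Fin 2) F) = ⊤ :=
        LinGroup.commutator_SL_fin_eq_top le_rfl fun _ => by rw [Nat.card_eq_fintype_card]; exact h4
      refine quasisimple_of_equiv (iso.trans ((MulEquiv.subgroupCongr htop).trans topEquiv))
        (BlockDiag.quasisimple_SL le_rfl fun _ => by rw [Nat.card_eq_fintype_card]; exact h4)
  · rcases Nat.lt_or_ge m 2 with hm | hm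
    · right
      have hK : Nat.card (↥E ⧸ pCore 2 ↥E) ≠ 1 := card_quot_ne_one hT
      rw [Nat.card_congr iso.toEquiv] at hK
      obtain rfl : m = 1 := by
        by_contra h
        obtain rfl : m = 0 := by omega
        haveI : Subsingleton (Fin (2 * 0 + 1)) := by rw [mul_zero, zero_add]; infer_instance
        exact hK Nat.card_unique
      refine Or.inl ⟨rfl, ?_, hQW, (relIndex_of_perm hact).trans (by norm_num)⟩
      rw [Nat.card_congr iso.toEquiv, Nat.card_eq_fintype_card]
      rfl
    · left
      haveI : IsSimpleGroup (alternatingGroup (Fin (2 * m + 1))) :=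
        alternatingGroup.isSimpleGroup (by rw [Nat.card_fin]; omega)
      refine quasisimple_of_equiv iso (isQuasisimple_of_simple_perfect ?_)
      exact commutator_alternatingGroup_eq_top (by rw [Nat.card_fin]; omega)

end Cfsg.Agent.Lib.BTBlock.Sub
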