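import Cfsg.Agent.Lib.BTBlock.Sub.Equal

/-!
# Subnormal blocks are equal or commute
-/

set_option autoImplicit false

namespace Cfsg.Agent.Lib.BTBlock.Sub

open Subgroup Cfsg
open scoped commutatorElement

universe u

variable {G : Type u} [Group G] [Finite G] {p : ℕ} [Fact p.Prime] {E F : Subgroup G}

theorem IsSmallBlock.card_quot_eq (hsE : IsSmallBlock p E) (hsF : IsSmallBlock p F) :
    Nat.card (↥E ⧸ pCore p ↥E) = Nat.card (↥F ⧸ pCore p ↥F) := by
  rcases hsE with ⟨hp, hc, -⟩ | ⟨hp, ⟨hc, -⟩, -⟩ <;>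
    rcases hsF with ⟨hp', hc', -⟩ | ⟨hp', ⟨hc', -⟩, -⟩ <;> omega

theorem eq_of_le (hE : IsBlock p E) (hF : IsBlock p F) (hEs : E.IsSubnormal) (hFs : F.IsSubnormal)
    (hsE : IsSmallBlock p E) (hsF : IsSmallBlock p F) (h : F ≤ E) : E = F := by
  refine hE.eq_of_le_sup hF (h.trans le_sup_left) (le_sup_of_image_le (le_of_eq ?_))
  obtain ⟨eE⟩ := nonempty_image_equiv (p := p) hEs
  obtain ⟨eF⟩ := nonempty_image_equiv (p := p) hFs
  refine (eq_of_le_of_card_ge (map_mono h) (le_of_eq ?_)).symm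
  rw [Nat.card_congr eE.toEquiv, Nat.card_congr eF.toEquiv, hsE.card_quot_eq hsF]

/-- The `p'`-part of an element of a small block outside `O_p` is outside `O_p`. -/
theorem IsSmallBlock.exists_coprime_pow_not_mem (hs : IsSmallBlock p E) {c : G} (hc : c ∈ E)
    (hcQ : c ∉ bQ p E) :
    ∃ k : ℕ, (orderOf (c ^ p ^ k)).Coprime p ∧ c ^ p ^ k ∉ bQ p E := by
  obtain ⟨k, hk⟩ := exists_coprime_pow p c
  refine ⟨k, hk, fun hy => hcQ ?_⟩
  rw [mem_bQ_iff hc, ← orderOf_eq_one_iff]
  refine Nat.eq_one_of_dvd_coprimes (hs.coprime_card.symm.pow_left k) (orderOf_dvd_of_pow_eq_one ?_)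
    (orderOf_dvd_natCard _)
  rw [← map_pow]
  exact (mem_bQ_iff (pow_mem hc _)).mp hy

/-- A small block permuting the conjugates of another one fixes it. -/
theorem le_normalizer_of_conj (hE : IsBlock p E) (hF : IsBlock p F) (hEs : E.IsSubnormal)
    (hFs : F.IsSubnormal) (hsE : IsSmallBlock p E) (hsF : IsSmallBlock p F)
    (hconj : ∀ a ∈ F, cj a E = E ∨ ⁅E, cj a E⁆ = ⊥) : F ≤ normalizer (E : Set G) := by
  have hcom : ∀ a ∈ F, a ∉ normalizer (E : Set G) → ⁅E, cj a E⁆ = ⊥ := fun a ha hn =>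
    (hconj a ha).resolve_left fun he => hn (cj_eq_iff.mp he)
  have hUn : ∀ q ∈ bQ p F, q ∈ normalizer (E : Set G) := fun q hq =>
    hE.pCore_le_normalizer ((bQ_eq hFs).le hq).2
  conv_lhs => rw [← hF.eq_closure]
  rw [closure_le]
  rintro f ⟨hf, hfo⟩
  by_contra hfn
  rcases id hsF with ⟨hp, hc3, -, -⟩ | ⟨hp, h8, -, -⟩
  · have hpow : ∀ x ∈ F, (orderOf x).Coprime p → x * x * x = 1 := fun x hx hxo => by
      have h : orderOf x ∣ 3 := by
        rw [hsF.coprime_orderOf_iff hx hxo, ← hc3]; exact orderOf_dvd_natCard _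
      rw [← orderOf_dvd_iff_pow_eq_one.mp h, pow_succ, pow_two]
    have hf2 : f * f ∉ normalizer (E : Set G) := fun h => hfn (by
      have h2 := mul_mem h h
      rwa [show f * f * (f * f) = f * f * f * f by group, hpow f hf hfo, one_mul] at h2)
    exact no_three_orbit hE hF hsE hsF hp hf (hcom f hf hfn)
      (hcom _ (F.mul_mem hf hf) hf2) hEs
  · have hpow : ∀ x ∈ F, (orderOf x).Coprime p → x * x * (x * x) = 1 := fun x hx hxo => by
      have h : x ^ orderOf (QuotientGroup.mk' (pCore p ↥F) ⟨x, hx⟩) = 1 := by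
        rw [← hsF.coprime_orderOf_iff hx hxo]; exact pow_orderOf_eq_one x
      obtain ⟨d, hd⟩ := orderOf_dvd_of_pow_eq_one (h8.2.1 (QuotientGroup.mk' (pCore p ↥F) ⟨x, hx⟩))
      have h4 : x ^ 4 = 1 := by rw [hd, pow_mul, h, one_pow]
      rw [← h4]; simp only [pow_succ, pow_zero, one_mul, mul_assoc]
    have key : ∀ g ∈ F, (orderOf g).Coprime p → g * g ∉ normalizer (E : Set G) → False := by
      intro g hg hgo hg2
      have h1 : g ∉ normalizer (E : Set G) := fun h => hg2 (mul_mem h h)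
      have h3 : g * g * g ∉ normalizer (E : Set G) := fun h => h1 (by
        have h' : g * g * g * g = 1 := by rw [mul_assoc]; exact hpow g hg hgo
        rw [eq_inv_of_mul_eq_one_right h']; exact inv_mem h)
      exact no_four_orbit hE hF hFs hsE hsF hp hg (hcom g hg h1) (hcom _ (F.mul_mem hg hg) hg2)
        (hcom _ (F.mul_mem (F.mul_mem hg hg) hg) h3) hEs
    by_cases hff : f * f ∈ normalizer (E : Set G)
    · by_cases hffQ : f * f ∈ bQ p F
      · -- replace `f` by a square root of it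
        obtain ⟨-, -, -, x, y, hxy⟩ := h8
        obtain ⟨z, hz⟩ : ∃ z : ↥F ⧸ pCore p ↥F, z * z ≠ 1 := by
          by_contra hc
          push Not at hc
          have hi : ∀ z : ↥F ⧸ pCore p ↥F, z⁻¹ = z := fun z => inv_eq_of_mul_eq_one_right (hc z)
          exact hxy (by rw [← hi (x * y), mul_inv_rev, hi, hi])
        obtain ⟨e, rfl⟩ := QuotientGroup.mk'_surjective (pCore p ↥F) z
        have heQ : (e : G) * e ∉ bQ p F := fun h => hz (by
          rw [← map_mul]; exact (mem_bQ_iff (F.mul_mem e.2 e.2)).mp h)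
        obtain ⟨m, hm⟩ := exists_coprime_pow p (e : G)
        set r := (e : G) ^ p ^ m with hr
        have hrF : r ∈ F := pow_mem e.2 _
        have hrr : r * r = ((e : G) * e) ^ p ^ m := by
          rw [(Commute.refl (e : G)).mul_pow]
        have hrQ : r * r ∉ bQ p F := by
          intro h
          rw [hrr] at h
          refine heQ ?_
          rw [mem_bQ_iff (F.mul_mem e.2 e.2), ← orderOf_eq_one_iff]
          refine Nat.eq_one_of_dvd_coprimes (hsF.coprime_card.symm.pow_left m)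
            (orderOf_dvd_of_pow_eq_one ?_) (orderOf_dvd_natCard _)
          rw [← map_pow]
          exact (mem_bQ_iff (pow_mem (F.mul_mem e.2 e.2) _)).mp h
        have hr4 := hpow r hrF hm
        have hfQ : f ∉ bQ p F := fun h => hfn (hUn f h)
        have hinv := hsF.invol_unique hp hf (F.mul_mem hrF hrF) hffQ
          (by rw [hr4]; exact one_mem _) hfQ hrQ
        refine key r hrF hm fun h => hfn ?_
        rw [show f = (r * r) * (f⁻¹ * (r * r))⁻¹ by group]
        exact mul_mem h (inv_mem (hUn _ hinv))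
      · exact no_moved hE hF hEs hsE hsF hp hf hfo hff (by rw [hpow f hf hfo]; exact one_mem _) hffQ
          (hcom f hf hfn)
    · exact key f hf hfo hff

/-- Two small blocks normalising each other are equal or commute. -/
theorem eq_or_commute_of_normalize (hG : centralizer (pCore p G : Set G) ≤ pCore p G)
    (hE : IsBlock p E) (hF : IsBlock p F) (hEs : E.IsSubnormal) (hFs : F.IsSubnormal)
    (hsE : IsSmallBlock p E) (hsF : IsSmallBlock p F) (hEF : E ≤ normalizer (F : Set G))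
    (hFE : F ≤ normalizer (E : Set G)) : E = F ∨ ⁅E, F⁆ = ⊥ := by
  by_cases h : ⁅E, F⁆ ≤ pCore p G
  · rcases id hsF with ⟨hp, -⟩ | ⟨hp, h8, -⟩
    · exact commute_or_eq_of_two hG hp hE hF hEs hFs hsE hsF h
    · exact Or.inr (commutator_eq_bot_of_big hE hF (Or.inr ⟨hp, h8⟩) h)
  · obtain ⟨c, hc, hcU⟩ := SetLike.not_le_iff_exists.mp h
    have hcE : c ∈ E := Coprime.commutator_le_of_le_normalizer hFE hc
    have hcF : c ∈ F := Coprime.commutator_le_of_le_normalizer hEF (commutator_comm E F ▸ hc)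
    obtain ⟨k, hk, hkQ⟩ := hsE.exists_coprime_pow_not_mem hcE fun h => hcU ((bQ_eq hEs).le h).2
    set y := c ^ p ^ k
    have hyE : y ∈ E := pow_mem hcE _
    have hyF : y ∈ F := pow_mem hcF _
    have hyU : y ∉ pCore p G := fun h => hkQ ((bQ_eq hEs).ge ⟨hyE, h⟩)
    refine Or.inl ?_
    rcases id hsE with ⟨hp, hcE3, -⟩ | ⟨hp, -⟩
    · have hcF3 : Nat.card (↥F ⧸ pCore p ↥F) = 3 := (hsE.card_quot_eq hsF).symm.trans hcE3
      have himg : ∀ X : Subgroup G, X.IsSubnormal → Nat.card (↥X ⧸ pCore p ↥X) = 3 → y ∈ X →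
          X.map (QuotientGroup.mk' (pCore p G)) = zpowers (QuotientGroup.mk' (pCore p G) y) := by
        intro X hXs hX3 hyX
        obtain ⟨e⟩ := nonempty_image_equiv (p := p) hXs
        refine (eq_of_le_of_card_ge (zpowers_le.mpr (mem_map_of_mem _ hyX)) ?_).symm
        rw [Nat.card_congr e.toEquiv, hX3, Nat.card_zpowers]
        have hd : orderOf (QuotientGroup.mk' (pCore p G) y) ∣ 3 := by
          rw [← hX3, ← Nat.card_congr e.toEquiv,
            ← Subgroup.orderOf_mk _ (mem_map_of_mem (QuotientGroup.mk' (pCore p G)) hyX)]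
          exact orderOf_dvd_natCard _
        rcases (Nat.dvd_prime Nat.prime_three).mp hd with h1 | h1
        · exact absurd ((QuotientGroup.eq_one_iff y).mp (orderOf_eq_one_iff.mp h1)) hyU
        · exact h1.ge
      exact hE.eq_of_le_sup hF
        (le_sup_of_image_le ((himg F hFs hcF3 hyF).trans (himg E hEs hcE3 hyE).symm).le)
        (le_sup_of_image_le ((himg E hEs hcE3 hyE).trans (himg F hFs hcF3 hyF).symm).le)
    · exact hE.eq_of_le_sup hF (le_sup_of_common hG hp hE hF hEs hFs hsE hsF hEF hFE hyE hyF hk hyU)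
        (le_sup_of_common hG hp hF hE hFs hEs hsF hsE hFE hEF hyF hyE hk hyU)

theorem eq_or_commute (hG : centralizer (pCore p G : Set G) ≤ pCore p G) (E F : Subgroup G)
    (hE : IsBlock p E) (hF : IsBlock p F) (hEs : E.IsSubnormal) (hFs : F.IsSubnormal) :
    E = F ∨ ⁅E, F⁆ = ⊥ := by
  suffices ∀ n, ∀ E F : Subgroup G, Nat.card ↥(E ⊔ F) = n → IsBlock p E → IsBlock p F →
      E.IsSubnormal → F.IsSubnormal → E = F ∨ ⁅E, F⁆ = ⊥ from this _ E F rfl hE hF hEs hFs
  intro n
  induction n using Nat.strong_induction_on with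
  | _ n ih =>
  intro E F hn hE hF hEs hFs
  by_cases hsmall : IsSmallBlock p E ∧ IsSmallBlock p F
  swap
  · exact eq_or_commute_of_not_small hE hF hEs hFs hsmall
  obtain ⟨hsE, hsF⟩ := hsmall
  by_cases hFE : F ≤ E
  · exact Or.inl (eq_of_le hE hF hEs hFs hsE hsF hFE)
  by_cases hEF : E ≤ F
  · exact Or.inl (eq_of_le hF hE hFs hEs hsF hsE hEF).symm
  have hconj : ∀ X : Subgroup G, IsBlock p X → X.IsSubnormal → X ≤ E ⊔ F → X ≠ E ⊔ F →
      ∀ a ∈ E ⊔ F, cj a X = X ∨ ⁅X, cj a X⁆ = ⊥ := by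
    intro X hX hXs hXle hXne a ha
    obtain ⟨N, hN, hXN, hNtop⟩ := (hXs.subgroupOf (K := E ⊔ F)).exists_normal_and_le_and_lt_top_of_ne
      fun h => hXne (le_antisymm hXle (subgroupOf_eq_top.mp h))
    have hN' : ∀ b ∈ E ⊔ F, cj b X ≤ N.map (E ⊔ F).subtype := by
      rintro b hb _ ⟨x, hx, rfl⟩
      exact ⟨_, hN.conj_mem ⟨x, hXle hx⟩ (hXN hx) ⟨b, hb⟩, by simp⟩
    have hlt : Nat.card ↥(X ⊔ cj a X) < n := by
      rw [← hn]
      refine lt_of_le_of_lt (card_le_of_le (sup_le ?_ (hN' a ha))) ?_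
      · have := hN' 1 (one_mem _)
        rwa [cj_one] at this
      · rw [Subgroup.card_map_of_injective (E ⊔ F).subtype_injective]
        by_contra hcc
        exact hNtop.ne (eq_top_of_card_eq N (le_antisymm (card_le_card_group N) (not_lt.mp hcc)))
    have hs : (cj a X).IsSubnormal := hXs.map (MulAut.conj a).surjective
    rcases ih _ hlt X (cj a X) rfl hX (hX.conj a) hXs hs with h | h
    · exact Or.inl h.symm
    · exact Or.inr h
  refine eq_or_commute_of_normalize hG hE hF hEs hFs hsE hsF ?_ ?_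
  · exact le_normalizer_of_conj hF hE hFs hEs hsF hsE fun a ha =>
      hconj F hF hFs le_sup_right (fun h => hEF (h ▸ le_sup_left)) a (mem_sup_left ha)
  · exact le_normalizer_of_conj hE hF hEs hFs hsE hsF fun a ha =>
      hconj E hE hEs le_sup_left (fun h => hFE (h ▸ le_sup_right)) a (mem_sup_right ha)

end Cfsg.Agent.Lib.BTBlock.Sub
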