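import Cfsg.Agent.Lib.BTBlock.Sub.SmallBasic

/-!
# Small blocks normalise each other
-/

set_option autoImplicit false

namespace Cfsg.Agent.Lib.BTBlock.Sub

open Subgroup Cfsg
open scoped commutatorElement

universe u

variable {G : Type u} [Group G] {p : ℕ}

/-- The conjugate `g X g⁻¹`. -/
abbrev cj (g : G) (X : Subgroup G) : Subgroup G := X.map (MulAut.conj g).toMonoidHom

theorem cj_cj (g h : G) (X : Subgroup G) : cj g (cj h X) = cj (g * h) X := by
  ext y
  constructor
  · rintro ⟨_, ⟨x, hx, rfl⟩, rfl⟩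
    exact ⟨x, hx, by simp [mul_assoc]⟩
  · rintro ⟨x, hx, rfl⟩
    exact ⟨_, ⟨x, hx, rfl⟩, by simp [mul_assoc]⟩

theorem cj_one (X : Subgroup G) : cj 1 X = X := by
  ext y; constructor
  · rintro ⟨x, hx, rfl⟩; simpa using hx
  · exact fun hy => ⟨y, hy, by simp⟩

theorem mem_cj {g x : G} {X : Subgroup G} (h : x ∈ X) : g * x * g⁻¹ ∈ cj g X := ⟨x, h, by simp⟩

theorem cj_eq_iff {g : G} {X : Subgroup G} : cj g X = X ↔ g ∈ normalizer (X : Set G) :=
  ⟨Amalgam.mem_normalizer_of_map_conj_eq, Amalgam.map_conj_eq_of_mem_normalizer⟩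

theorem commutes_of {A B : Subgroup G} (h : ⁅A, B⁆ = ⊥) {a b : G} (ha : a ∈ A) (hb : b ∈ B) :
    a * b = b * a :=
  commutatorElement_eq_one_iff_mul_comm.mp
    ((Subgroup.mem_bot).mp (h ▸ commutator_mem_commutator ha hb))

theorem mem_centralizer_of_comm {A B : Subgroup G} (h : ⁅A, B⁆ = ⊥) {b : G} (hb : b ∈ B) :
    b ∈ centralizer (A : Set G) :=
  mem_centralizer_iff.mpr fun _ ha => commutes_of h ha hb

variable [Finite G] [Fact p.Prime] {E F : Subgroup G}

theorem bW_mem (E : Subgroup G) {x : G} (h : x ∈ bW p E) : x ∈ E :=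
  Amalgam.pCoreOf_le p E (bW_le E h)

/-- Four commuting conjugates do not fit. -/
theorem no_four_orbit (hE : IsBlock p E) (hF : IsBlock p F) (hFs : F.IsSubnormal)
    (hsE : IsSmallBlock p E) (hsF : IsSmallBlock p F) (hp : p = 3) {f : G} (hf : f ∈ F)
    (h01 : ⁅E, cj f E⁆ = ⊥) (h02 : ⁅E, cj (f * f) E⁆ = ⊥) (h03 : ⁅E, cj (f * f * f) E⁆ = ⊥)
    (hEs : E.IsSubnormal) : False := by
  classical
  have hmap : ∀ g : G, ∀ A B : Subgroup G, ⁅A, B⁆ = ⊥ → ⁅cj g A, cj g B⁆ = ⊥ := fun g A B h => by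
    rw [cj, cj, ← map_commutator, h, Subgroup.map_bot]
  set E1 := cj f E with hE1
  set E2 := cj (f * f) E with hE2
  set E3 := cj (f * f * f) E with hE3
  have h12 : ⁅E1, E2⁆ = ⊥ := by
    have := hmap f _ _ h01
    rwa [cj_cj] at this
  have h13 : ⁅E1, E3⁆ = ⊥ := by
    have := hmap f _ _ h02
    rw [cj_cj] at this
    rwa [hE1, hE3, mul_assoc]
  have h23 : ⁅E2, E3⁆ = ⊥ := by
    have := hmap f _ _ h12
    simp only [hE1, hE2, cj_cj] at this
    rwa [hE2, hE3, mul_assoc]
  have hW : (bZ p E).relIndex (bW p E) = 9 := by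
    rcases hsE with ⟨h2, -⟩ | ⟨-, -, h9, -⟩
    · omega
    · exact h9
  let X := (bW p E) ⧸ (bZ p E).subgroupOf (bW p E)
  let φ : G := f * f
  let val : X × X × X → G := fun t =>
    (t.1.out : G) * (f * (t.2.1.out : G) * f⁻¹) * (φ * (t.2.2.out : G) * φ⁻¹)
  have hvalU : ∀ t, val t ∈ pCore p G := by
    intro t
    have h : ∀ x : bW p E, (x : G) ∈ pCore p G := fun x =>
      ((bQ_eq hEs).le (bW_le E x.2)).2
    exact mul_mem (mul_mem (h _) ((inferInstance : (pCore p G).Normal).conj_mem _ (h _) _))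
      ((inferInstance : (pCore p G).Normal).conj_mem _ (h _) _)
  let m : X × X × X → bQ p F := fun t => ⟨⁅f, val t⁆, (hF.commutator_mem_bQ hf (hvalU t)).1⟩
  have hinj : Function.Injective m := by
    intro s t hst
    have hc : ⁅f, val s⁆ = ⁅f, val t⁆ := congrArg Subtype.val hst
    -- the quotient `y` of the two values is fixed by `f`
    have hy : f * ((val t)⁻¹ * val s) * f⁻¹ = (val t)⁻¹ * val s := by
      rw [commutatorElement_def, commutatorElement_def] at hc
      calc f * ((val t)⁻¹ * val s) * f⁻¹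
          = (f * val t * f⁻¹ * (val t)⁻¹ * val t)⁻¹ * (f * val s * f⁻¹ * (val s)⁻¹ * val s) := by group
        _ = (val t)⁻¹ * val s := by rw [hc]; group
    obtain ⟨a, b, c⟩ := s
    obtain ⟨a', b', c'⟩ := t
    set x0 : G := (a'.out : G)⁻¹ * (a.out : G) with hx0
    set y1 : G := (b'.out : G)⁻¹ * (b.out : G) with hy1
    set z2 : G := (c'.out : G)⁻¹ * (c.out : G) with hz2
    have hx0W : x0 ∈ bW p E := mul_mem (inv_mem (Subtype.coe_prop _)) (Subtype.coe_prop _)
    have hy1W : y1 ∈ bW p E := mul_mem (inv_mem (Subtype.coe_prop _)) (Subtype.coe_prop _)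
    have hz2W : z2 ∈ bW p E := mul_mem (inv_mem (Subtype.coe_prop _)) (Subtype.coe_prop _)
    set x1 := f * y1 * f⁻¹ with hx1
    set x2 := φ * z2 * φ⁻¹ with hx2
    have e1 : x1 ∈ E1 := mem_cj (bW_mem E hy1W)
    have e2 : x2 ∈ E2 := mem_cj (bW_mem E hz2W)
    have hA0 : (a.out : G) ∈ E ∧ (a'.out : G) ∈ E := ⟨bW_mem E (Subtype.coe_prop _), bW_mem E (Subtype.coe_prop _)⟩
    have hB1 : f * (b.out : G) * f⁻¹ ∈ E1 ∧ f * (b'.out : G) * f⁻¹ ∈ E1 :=
      ⟨mem_cj (bW_mem E (Subtype.coe_prop _)), mem_cj (bW_mem E (Subtype.coe_prop _))⟩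
    have hC2 : φ * (c'.out : G) * φ⁻¹ ∈ E2 := mem_cj (bW_mem E (Subtype.coe_prop _))
    have hyval : (val (a', b', c'))⁻¹ * val (a, b, c) = x0 * x1 * x2 := by
      have k1 : (φ * (c'.out : G) * φ⁻¹)⁻¹ * ((f * (b'.out : G) * f⁻¹)⁻¹ * x0) =
          x0 * ((f * (b'.out : G) * f⁻¹)⁻¹ * (φ * (c'.out : G) * φ⁻¹)⁻¹) := by
        rw [← commutes_of h01 (bW_mem E hx0W) (inv_mem hB1.2), ← mul_assoc,
          ← commutes_of h02 (bW_mem E hx0W) (inv_mem hC2), mul_assoc,
          ← commutes_of h12 (inv_mem hB1.2) (inv_mem hC2)]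
      have k2 : (φ * (c'.out : G) * φ⁻¹)⁻¹ * (f * (b.out : G) * f⁻¹) =
          (f * (b.out : G) * f⁻¹) * (φ * (c'.out : G) * φ⁻¹)⁻¹ :=
        (commutes_of h12 hB1.1 (inv_mem hC2)).symm
      calc (val (a', b', c'))⁻¹ * val (a, b, c)
          = ((φ * (c'.out : G) * φ⁻¹)⁻¹ * ((f * (b'.out : G) * f⁻¹)⁻¹ * x0)) *
              (f * (b.out : G) * f⁻¹) * (φ * (c.out : G) * φ⁻¹) := by
            simp only [val, hx0]; group
        _ = x0 * (f * (b'.out : G) * f⁻¹)⁻¹ *
              ((φ * (c'.out : G) * φ⁻¹)⁻¹ * (f * (b.out : G) * f⁻¹)) * (φ * (c.out : G) * φ⁻¹) := by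
            rw [k1]; group
        _ = x0 * x1 * x2 := by rw [k2, hx1, hx2, hy1, hz2]; group
    rw [hyval] at hy
    set w1 := f * x0 * f⁻¹ with hw1
    set w2 := f * x1 * f⁻¹ with hw2
    set w3 := f * x2 * f⁻¹ with hw3
    have e1' : w1 ∈ E1 := mem_cj (bW_mem E hx0W)
    have e2' : w2 ∈ E2 := by
      rw [hw2, hx1, hE2]
      have := mem_cj (g := f * f) (bW_mem E hy1W)
      convert this using 1
      group
    have e3' : w3 ∈ E3 := by
      rw [hw3, hx2, hE3]
      have := mem_cj (g := f * f * f) (bW_mem E hz2W)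
      convert this using 1
      simp only [φ]; group
    have heq : w1 * w2 * w3 = x0 * x1 * x2 := by rw [← hy, hw1, hw2, hw3]; group
    have hZ0 : ∀ {x : G}, x ∈ bW p E → x ∈ centralizer (E : Set G) → x ∈ bZ p E :=
      fun hx hc => ⟨hx, hc⟩
    have hcent : ∀ (g : G) {x : G}, x ∈ centralizer (E : Set G) →
        g * x * g⁻¹ ∈ centralizer (cj g E : Set G) := fun g x hx => by
      rw [mem_centralizer_iff]
      rintro _ ⟨y, hy, rfl⟩
      simp only [MulEquiv.coe_toMonoidHom, MulAut.conj_apply]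
      calc g * y * g⁻¹ * (g * x * g⁻¹) = g * (y * x) * g⁻¹ := by group
        _ = g * x * g⁻¹ * (g * y * g⁻¹) := by rw [mem_centralizer_iff.mp hx y hy]; group
    have hback : ∀ (g : G) {x : G}, g * x * g⁻¹ ∈ centralizer (cj g E : Set G) →
        x ∈ centralizer (E : Set G) := fun g x hx => mem_centralizer_iff.mpr fun y hy => by
      have h := mem_centralizer_iff.mp hx _ (mem_cj hy)
      calc y * x = g⁻¹ * (g * y * g⁻¹ * (g * x * g⁻¹)) * g := by group
        _ = x * y := by rw [h]; group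
    -- `x0`
    have c0 : x0 ∈ centralizer (E : Set G) := by
      rw [show x0 = (x0 * x1 * x2) * x2⁻¹ * x1⁻¹ by group, ← heq]
      exact mul_mem (mul_mem (mul_mem (mul_mem (mem_centralizer_of_comm h01 e1')
        (mem_centralizer_of_comm h02 e2')) (mem_centralizer_of_comm h03 e3'))
        (inv_mem (mem_centralizer_of_comm h02 e2))) (inv_mem (mem_centralizer_of_comm h01 e1))
    have c1 : x1 ∈ centralizer (E1 : Set G) := by
      rw [show x1 = x0⁻¹ * ((x0 * x1 * x2) * x2⁻¹) by group, ← heq]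
      refine mul_mem (inv_mem (mem_centralizer_of_comm ?_ (bW_mem E hx0W)))
        (mul_mem (mul_mem (mul_mem (hcent f c0) (mem_centralizer_of_comm h12 e2'))
          (mem_centralizer_of_comm h13 e3')) (inv_mem (mem_centralizer_of_comm h12 e2)))
      rwa [commutator_comm] at h01
    have c1' : y1 ∈ centralizer (E : Set G) := hback f c1
    have c2 : x2 ∈ centralizer (E2 : Set G) := by
      rw [show x2 = x1⁻¹ * x0⁻¹ * (x0 * x1 * x2) by group, ← heq]
      have hw2c : w2 ∈ centralizer (E2 : Set G) := by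
        have := hcent (f * f) c1'
        rw [hw2, hx1]
        convert this using 1
        group
      refine mul_mem (mul_mem (inv_mem (mem_centralizer_of_comm ?_ e1))
        (inv_mem (mem_centralizer_of_comm ?_ (bW_mem E hx0W))))
        (mul_mem (mul_mem (mem_centralizer_of_comm ?_ e1') hw2c) (mem_centralizer_of_comm h23 e3'))
      · rwa [commutator_comm] at h12
      · rwa [commutator_comm] at h02
      · rwa [commutator_comm] at h12
    have c2' : z2 ∈ centralizer (E : Set G) := hback φ c2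
    have key : ∀ u v : X, (v.out : G)⁻¹ * (u.out : G) ∈ bZ p E → u = v := fun u v h => by
      rw [← u.out_eq, ← v.out_eq]
      refine (QuotientGroup.eq.mpr ?_).symm
      rw [mem_subgroupOf]
      exact h
    rw [key a a' (hZ0 hx0W c0), key b b' (hZ0 hy1W c1'), key c c' (hZ0 hz2W c2')]
  have hcard := Nat.card_le_card_of_injective m hinj
  rw [Nat.card_prod, Nat.card_prod, show Nat.card X = 9 from hW] at hcard
  rcases card_bQ hF hsF with ⟨h2, -⟩ | ⟨-, -, h⟩ | ⟨-, -, h⟩ <;> omega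

/-- The case `p = 2`. -/
theorem no_three_orbit (hE : IsBlock p E) (hF : IsBlock p F)
    (hsE : IsSmallBlock p E) (hsF : IsSmallBlock p F) (hp : p = 2) {f : G} (hf : f ∈ F)
    (h01 : ⁅E, cj f E⁆ = ⊥) (h02 : ⁅E, cj (f * f) E⁆ = ⊥) (hEs : E.IsSubnormal) : False := by
  classical
  set E1 := cj f E with hE1
  set E2 := cj (f * f) E with hE2
  have h12 : ⁅E1, E2⁆ = ⊥ := by
    have : ⁅cj f E, cj f (cj f E)⁆ = ⊥ := by rw [cj, cj, ← map_commutator, h01, Subgroup.map_bot]
    rwa [cj_cj] at this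
  have hQW : bQ p E = bW p E := by
    rcases hsE with ⟨-, -, h, -⟩ | ⟨h3, -⟩
    · exact h
    · omega
  have hz : ∀ {x : G}, x ∈ bQ p E → x ∈ centralizer (E : Set G) → x = 1 := fun hx hc => by
    have := hE.mem_bZ_of_centralizes hx hc
    rwa [bZ_eq_bot hE hsE hQW, Subgroup.mem_bot] at this
  have hQE : bQ p E ≤ E := Amalgam.pCoreOf_le p E
  have hU : bQ p E ≤ pCore p G := fun x hx => ((bQ_eq hEs).le hx).2
  let val : bQ p E × bQ p E → G := fun t => (t.1 : G) * (f * (t.2 : G) * f⁻¹)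
  have hvalU : ∀ t, val t ∈ pCore p G := fun t => mul_mem (hU t.1.2)
    ((inferInstance : (pCore p G).Normal).conj_mem _ (hU t.2.2) _)
  let m : bQ p E × bQ p E → bQ p F := fun t => ⟨⁅f, val t⁆, (hF.commutator_mem_bQ hf (hvalU t)).1⟩
  have hinj : Function.Injective m := by
    rintro ⟨a, b⟩ ⟨a', b'⟩ hst
    have hc : ⁅f, val (a, b)⁆ = ⁅f, val (a', b')⁆ := congrArg Subtype.val hst
    set x0 : G := (a' : G)⁻¹ * a with hx0
    set y1 : G := (b : G) * (b' : G)⁻¹ with hy1
    have hy : f * ((val (a', b'))⁻¹ * val (a, b)) * f⁻¹ = (val (a', b'))⁻¹ * val (a, b) := by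
      rw [commutatorElement_def, commutatorElement_def] at hc
      calc f * ((val (a', b'))⁻¹ * val (a, b)) * f⁻¹
          = (f * val (a', b') * f⁻¹ * (val (a', b'))⁻¹ * val (a', b'))⁻¹ *
              (f * val (a, b) * f⁻¹ * (val (a, b))⁻¹ * val (a, b)) := by group
        _ = (val (a', b'))⁻¹ * val (a, b) := by rw [hc]; group
    have hx0E : x0 ∈ bQ p E := mul_mem (inv_mem a'.2) a.2
    set x1 := f * ((b' : G)⁻¹ * b) * f⁻¹ with hx1
    have e1 : x1 ∈ E1 := mem_cj (hQE (mul_mem (inv_mem b'.2) b.2))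
    have hyv : (val (a', b'))⁻¹ * val (a, b) = x0 * x1 := by
      calc (val (a', b'))⁻¹ * val (a, b)
          = (f * (b' : G) * f⁻¹)⁻¹ * x0 * (f * (b : G) * f⁻¹) := by simp only [val, hx0]; group
        _ = x0 * x1 := by
          rw [← commutes_of h01 (hQE hx0E) (inv_mem (mem_cj (hQE b'.2))), hx1]; group
    rw [hyv] at hy
    set w1 := f * x0 * f⁻¹
    set w2 := f * x1 * f⁻¹ with hw2
    have e2 : w2 ∈ E2 := by
      rw [hw2, hx1, hE2]
      have := mem_cj (g := f * f) (hQE (mul_mem (inv_mem b'.2) b.2))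
      convert this using 1
      group
    have heq : w1 * w2 = x0 * x1 := by rw [← hy]; simp only [w1, w2]; group
    have c0 : x0 = 1 := hz hx0E <| by
      rw [show x0 = x0 * x1 * x1⁻¹ by group, ← heq]
      exact mul_mem (mul_mem (mem_centralizer_of_comm h01 (mem_cj (hQE hx0E)))
        (mem_centralizer_of_comm h02 e2)) (inv_mem (mem_centralizer_of_comm h01 e1))
    have hb : (b' : G)⁻¹ * b = 1 := hz (mul_mem (inv_mem b'.2) b.2) <| by
      have hx1c : x1 ∈ centralizer (E1 : Set G) := by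
        have hw1 : w1 = 1 := by simp only [w1]; rw [c0]; group
        rw [c0, hw1, one_mul, one_mul] at heq
        rw [← heq]
        exact mem_centralizer_of_comm h12 e2
      refine mem_centralizer_iff.mpr fun y hy => ?_
      have h := mem_centralizer_iff.mp hx1c _ (mem_cj hy)
      rw [hx1] at h
      calc y * ((b' : G)⁻¹ * b) = f⁻¹ * (f * y * f⁻¹ * (f * ((b' : G)⁻¹ * b) * f⁻¹)) * f := by group
        _ = (b' : G)⁻¹ * b * y := by rw [h]; group
    refine Prod.ext (Subtype.ext ?_) (Subtype.ext ?_)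
    · exact (inv_mul_eq_one.mp c0).symm
    · exact (inv_mul_eq_one.mp hb).symm
  have hcard := Nat.card_le_card_of_injective m hinj
  rw [Nat.card_prod] at hcard
  rcases card_bQ hE hsE with ⟨-, h⟩ | ⟨h3, -⟩ | ⟨h3, -⟩ <;>
    rcases card_bQ hF hsF with ⟨-, h'⟩ | ⟨h3', -⟩ | ⟨h3', -⟩ <;> first | omega | (rw [h, h'] at hcard; omega)

/-- If `f` of order four moves `E` and its square `j` does not, `O_p(E) ≤ O_p(F)`. -/
theorem bQ_le_of_moved (hE : IsBlock p E) (hF : IsBlock p F) (hEs : E.IsSubnormal)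
    (hsE : IsSmallBlock p E) (hsF : IsSmallBlock p F) (hp : p = 3) {f : G} (hf : f ∈ F)
    (hfo : (orderOf f).Coprime p) (hj : f * f ∈ normalizer (E : Set G))
    (hj2 : (f * f) * (f * f) ∈ bQ p F) (hjQ : f * f ∉ bQ p F) (h01 : ⁅E, cj f E⁆ = ⊥) :
    bQ p E ≤ bQ p F := by
  set j := f * f
  have hQE : bQ p E ≤ E := Amalgam.pCoreOf_le p E
  have hU : bQ p E ≤ pCore p G := fun x hx => ((bQ_eq hEs).le hx).2
  have hjF : j ∈ F := F.mul_mem hf hf
  -- fixed points of `j`
  have hfix : ∀ q ∈ bQ p E, j * q = q * j → q ∈ bZ p E := by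
    intro q hq hc
    set x := q⁻¹ * (f * q * f⁻¹) with hx
    have hxF : x ∈ bQ p F := by
      have h := (hF.commutator_mem_bQ hf (inv_mem (hU hq))).2
      rw [commutatorElement_def] at h
      convert h using 1
      rw [hx]; group
    have hjx : j * x = x * j := by
      have hjc : ∀ y : G, j * y = y * j → j * (f * y * f⁻¹) = f * y * f⁻¹ * j := fun y hy => by
        calc j * (f * y * f⁻¹) = f * (j * y) * f⁻¹ := by simp only [j]; group
          _ = f * y * f⁻¹ * j := by rw [hy]; simp only [j]; group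
      have h1 : j * q⁻¹ = q⁻¹ * j := by
        calc j * q⁻¹ = q⁻¹ * (q * j) * q⁻¹ := by group
          _ = q⁻¹ * j := by rw [← hc]; group
      rw [hx, ← mul_assoc, h1, mul_assoc, hjc q hc]; group
    have hz := hsF.mem_bZ_of_involution hF hp hjF hj2 hjQ hxF hjx
    have hfq : f * q * f⁻¹ = q := fix_of_step (isPGroup_bQ F) hfo (r := x) (by rw [hx]; group)
      (by rw [mem_centralizer_iff.mp hz.2 f hf, mul_inv_cancel_right]) hxF
    refine hE.mem_bZ_of_centralizes hq (mem_centralizer_of_comm h01 ?_)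
    have := mem_cj (g := f) (hQE hq)
    rwa [hfq] at this
  -- `O_p(E) = (O_p(E) ∩ O_p(F)) Z`
  have hN : zpowers j ≤ normalizer ((bQ p E ⊓ bQ p F : Subgroup G) : Set G) := by
    have hL : normalizer (bQ p E : Set G) ⊓ normalizer (bQ p F : Set G) ≤
        normalizer ((bQ p E ⊓ bQ p F : Subgroup G) : Set G) := by
      refine Coprime.le_normalizer_of_conj_mem fun y hy w hw => ?_
      exact ⟨(mem_normalizer_iff.mp hy.1 w).mp hw.1, (mem_normalizer_iff.mp hy.2 w).mp hw.2⟩
    refine le_trans ?_ hL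
    rw [zpowers_le]
    exact ⟨(le_normalizer_section (p := p) E (X := normalizer (E : Set G)) le_rfl).1 hj,
      bQ_normal F hjF⟩
  have hjo : (orderOf j).Coprime p := by
    refine Nat.Coprime.coprime_dvd_left ?_ hfo
    rw [show j = f ^ 2 from (sq f).symm]
    exact orderOf_pow_dvd 2
  have hcop : (Nat.card (zpowers j)).Coprime (Nat.card ↥(bQ p E ⊓ bQ p F)) := by
    obtain ⟨k, hk⟩ := IsPGroup.iff_card.mp ((isPGroup_bQ (p := p) E).to_le
      (inf_le_left : bQ p E ⊓ bQ p F ≤ bQ p E))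
    rw [hk, Nat.card_zpowers]
    exact hjo.pow_right k
  have hdec : ∀ q ∈ bQ p E, ∃ c ∈ bZ p E, c⁻¹ * q ∈ bQ p F := by
    intro q hq
    have hjQE : ∀ a ∈ zpowers j, a ∈ F ∧ a ∈ normalizer (bQ p E : Set G) := fun a ha => by
      obtain ⟨i, rfl⟩ := mem_zpowers_iff.mp ha
      exact ⟨F.zpow_mem hjF i, zpow_mem
        ((le_normalizer_section (p := p) E (X := normalizer (E : Set G)) le_rfl).1 hj) i⟩
    obtain ⟨c, hc, hcN⟩ := Coprime.exists_centralizer_mem_leftCoset hN hcop
      (Or.inl inferInstance) (k := q) (fun a ha => by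
        have hmem : q⁻¹ * (a * q * a⁻¹) ∈ bQ p E :=
          mul_mem (inv_mem hq) ((mem_normalizer_iff.mp (hjQE a ha).2 q).mp hq)
        refine ⟨hmem, ?_⟩
        have h := (hF.commutator_mem_bQ (hjQE a ha).1 (inv_mem (hU hq))).2
        rw [commutatorElement_def] at h
        show _ ∈ bQ p F
        convert h using 1
        group)
    have hcQ : c ∈ bQ p E := by
      rw [show c = q * (q⁻¹ * c) by group]
      exact mul_mem hq hcN.1
    refine ⟨c, hfix c hcQ (mem_centralizer_iff.mp hc j (mem_zpowers j)), ?_⟩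
    have := inv_mem (show q⁻¹ * c ∈ bQ p F from hcN.2)
    convert this using 1
    group
  have hZ : bZ p E ≤ bQ p F := by
    by_cases hQW : bQ p E = bW p E
    · rw [bZ_eq_bot hE hsE hQW]; exact bot_le
    · obtain ⟨-, -, hder, -, -⟩ := hE.exceptional hQW
      rw [← hder, commutator_le]
      intro a ha b hb
      obtain ⟨c, hc, hca⟩ := hdec a ha
      obtain ⟨d, hd, hdb⟩ := hdec b hb
      have hcomm : ∀ z ∈ bZ p E, ∀ y ∈ bQ p E, y * z = z * y := fun z hz y hy => commute_bW hz.1 hy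
      have hcQ : c ∈ bQ p E := bW_le E hc.1
      have hdQ : d ∈ bQ p E := bW_le E hd.1
      set a' := c⁻¹ * a
      set b' := d⁻¹ * b
      have ha' : a' ∈ bQ p E := mul_mem (inv_mem hcQ) ha
      have hb' : b' ∈ bQ p E := mul_mem (inv_mem hdQ) hb
      have h : ⁅a, b⁆ = ⁅a', b'⁆ := by
        have e1 : ⁅a, b⁆ = c * (a' * d * (b' * a'⁻¹)) * (c⁻¹ * b'⁻¹) * d⁻¹ := by
          simp only [a', b', commutatorElement_def]; group
        rw [e1, hcomm d hd a' ha']
        calc c * (d * a' * (b' * a'⁻¹)) * (c⁻¹ * b'⁻¹) * d⁻¹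
            = c * d * ((a' * b' * a'⁻¹) * c⁻¹) * b'⁻¹ * d⁻¹ := by group
          _ = c * d * (c⁻¹ * (a' * b' * a'⁻¹)) * b'⁻¹ * d⁻¹ := by
            rw [hcomm c⁻¹ (inv_mem hc) _ (mul_mem (mul_mem ha' hb') (inv_mem ha'))]
          _ = c * d * c⁻¹ * ((a' * b' * a'⁻¹ * b'⁻¹) * d⁻¹) := by group
          _ = c * d * c⁻¹ * (d⁻¹ * ⁅a', b'⁆) := by
            rw [hcomm d⁻¹ (inv_mem hd) _ (mul_mem (mul_mem (mul_mem ha' hb') (inv_mem ha')) (inv_mem hb')),
              commutatorElement_def]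
          _ = (c * d) * (d * c)⁻¹ * ⁅a', b'⁆ := by group
          _ = ⁅a', b'⁆ := by rw [hcomm d hd c hcQ]; group
      rw [h, commutatorElement_def]
      exact mul_mem (mul_mem (mul_mem hca hdb) (inv_mem hca)) (inv_mem hdb)
  intro q hq
  obtain ⟨c, hc, hcq⟩ := hdec q hq
  rw [show q = c * (c⁻¹ * q) by group]
  exact mul_mem (hZ hc) hcq

/-- An element of order four moving `E` with square fixing it is impossible. -/
theorem no_moved (hE : IsBlock p E) (hF : IsBlock p F) (hEs : E.IsSubnormal)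
    (hsE : IsSmallBlock p E) (hsF : IsSmallBlock p F) (hp : p = 3) {f : G} (hf : f ∈ F)
    (hfo : (orderOf f).Coprime p) (hj : f * f ∈ normalizer (E : Set G))
    (hj2 : (f * f) * (f * f) ∈ bQ p F) (hjQ : f * f ∉ bQ p F) (h01 : ⁅E, cj f E⁆ = ⊥) : False := by
  classical
  set E1 := cj f E with hE1
  have h10 : ⁅E1, cj f E1⁆ = ⊥ := by
    have : ⁅cj f E, cj f (cj f E)⁆ = ⊥ := by rw [cj, cj, ← map_commutator, h01, Subgroup.map_bot]
    exact this
  have hE1b : IsBlock p E1 := hE.conj f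
  have hE1s : E1.IsSubnormal := hEs.map (MulAut.conj f).surjective
  have hsE1 : IsSmallBlock p E1 := by
    rcases hE1b.kind with hq | hs
    · exfalso
      obtain ⟨e⟩ := quotient_map (p := p) (MulAut.conj f) E
      have hq' : IsQuasisimple (↥E ⧸ pCore p ↥E) := quasisimple_of_equiv e.symm hq
      rcases hsE with ⟨-, hc, -⟩ | ⟨-, ⟨hc, -⟩, -⟩
      · haveI := Fact.mk Nat.prime_three
        haveI := (IsPGroup.of_card (p := 3) (n := 1) (by rw [hc, pow_one] :
          Nat.card (↥E ⧸ pCore p ↥E) = 3 ^ 1)).isNilpotent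
        exact Components.quasisimple_not_isSolvable hq' inferInstance
      · haveI := Fact.mk Nat.prime_two
        haveI := (IsPGroup.of_card (p := 2) (n := 3) (by rw [hc]; norm_num :
          Nat.card (↥E ⧸ pCore p ↥E) = 2 ^ 3)).isNilpotent
        exact Components.quasisimple_not_isSolvable hq' inferInstance
    · exact hs
  have hj1 : f * f ∈ normalizer (E1 : Set G) := by
    rw [← cj_eq_iff, hE1, cj_cj, show f * f * f = f * (f * f) by group, ← cj_cj, cj_eq_iff.mpr hj]
  have hle : bQ p E ≤ bQ p F := bQ_le_of_moved hE hF hEs hsE hsF hp hf hfo hj hj2 hjQ h01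
  have hle1 : bQ p E1 ≤ bQ p F := bQ_le_of_moved hE1b hF hE1s hsE1 hsF hp hf hfo hj1 hj2 hjQ h10
  have hQE : bQ p E ≤ E := Amalgam.pCoreOf_le p E
  have hQ1 : bQ p E1 ≤ E1 := Amalgam.pCoreOf_le p E1
  have hcard1 : Nat.card (bQ p E1) = Nat.card (bQ p E) := by
    rw [hE1, bQ_conj, Subgroup.card_map_of_injective (MulAut.conj f).injective]
  have hinter : ∀ x ∈ bQ p E, x ∈ bQ p E1 → x ∈ bZ p E := fun x hx hx1 =>
    hE.mem_bZ_of_centralizes hx (mem_centralizer_of_comm h01 (hQ1 hx1))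
  rcases card_bQ hE hsE with ⟨h2, -⟩ | ⟨-, hQW, h9⟩ | ⟨-, hQW, h243⟩
  · omega
  · have hz := bZ_eq_bot hE hsE hQW
    rcases card_bQ hF hsF with ⟨h2, -⟩ | ⟨-, -, h9'⟩ | ⟨-, hFW, h243'⟩
    · omega
    · have h0 : bQ p E = bQ p F := eq_of_le_of_card_ge hle (by rw [h9, h9'])
      have h1 : bQ p E1 = bQ p F := eq_of_le_of_card_ge hle1 (by rw [hcard1, h9, h9'])
      have hb : bQ p E = ⊥ := eq_bot_iff.mpr fun x hx => hz ▸ hinter x hx (h1.ge (h0.le hx))
      rw [hb, card_bot] at h9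
      omega
    · -- `O_p(F)` would be abelian
      obtain ⟨-, -, hder, -, -⟩ := hF.exceptional hFW
      set j := f * f
      have hjF : j ∈ F := F.mul_mem hf hf
      have hjQE := (le_normalizer_section (p := p) E (X := normalizer (E : Set G)) le_rfl).1 hj
      have hjQ1 := (le_normalizer_section (p := p) E1 (X := normalizer (E1 : Set G)) le_rfl).1 hj1
      have hQW1 : bQ p E1 = bW p E1 := by
        rw [hE1, bQ_conj, bW_conj]; exact congrArg (Subgroup.map _) hQW
      have hz1 := bZ_eq_bot hE1b hsE1 hQW1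
      have hjfix : ∀ (D : Subgroup G), IsBlock p D → IsSmallBlock p D → bQ p D = bW p D →
          ⁅D, cj f D⁆ = ⊥ → bQ p D ≤ bQ p F → ∀ x ∈ bQ p D, j * x = x * j → x = 1 := by
        intro D hD hsD hDW hDc hDle x hx hc
        have hxz := hsF.mem_bZ_of_involution hF hp hjF hj2 hjQ (hDle hx) hc
        have hfx : f * x * f⁻¹ = x := by
          rw [mem_centralizer_iff.mp hxz.2 f hf, mul_inv_cancel_right]
        have hxc : x ∈ centralizer (D : Set G) := by
          refine mem_centralizer_of_comm hDc ?_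
          have := mem_cj (g := f) (Amalgam.pCoreOf_le p D hx)
          rwa [hfx] at this
        have := hD.mem_bZ_of_centralizes hx hxc
        rwa [bZ_eq_bot hD hsD hDW, Subgroup.mem_bot] at this
      have hcz : ∀ z ∈ bZ p F, ∀ y ∈ bQ p F, y * z = z * y := fun z hzz y hy => commute_bW hzz.1 hy
      let m : bQ p E × bQ p E1 × bZ p F → bQ p F := fun t =>
        ⟨(t.1 : G) * t.2.1 * t.2.2, mul_mem (mul_mem (hle t.1.2) (hle1 t.2.1.2)) (bW_le F t.2.2.2.1)⟩
      have hinj : Function.Injective m := by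
        rintro ⟨a, b, c⟩ ⟨a', b', c'⟩ hst
        have hv : (a : G) * b * c = (a' : G) * b' * c' := congrArg Subtype.val hst
        set x0 : G := (a' : G)⁻¹ * a
        set x1 : G := (b : G) * (b' : G)⁻¹
        set z : G := (c' : G) * (c : G)⁻¹
        have hz0 : z ∈ bZ p F := mul_mem c'.2 (inv_mem c.2)
        have hzv : x0 * x1 = z := by
          calc x0 * x1 = (a' : G)⁻¹ * ((a : G) * b * c) * (c : G)⁻¹ * (b' : G)⁻¹ := by
                simp only [x0, x1]; group
            _ = (b' : G) * z * (b' : G)⁻¹ := by rw [hv]; simp only [z]; group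
            _ = z := by rw [hcz z hz0 _ (hle1 b'.2), mul_inv_cancel_right]
        have hx0 : x0 ∈ bQ p E := mul_mem (inv_mem a'.2) a.2
        have hx1 : x1 ∈ bQ p E1 := mul_mem b.2 (inv_mem b'.2)
        have hjz : j * z * j⁻¹ = z := by
          rw [mem_centralizer_iff.mp hz0.2 j hjF, mul_inv_cancel_right]
        have hsplit : x0⁻¹ * (j * x0 * j⁻¹) = 1 := by
          have h1 : (j * x0 * j⁻¹) * (j * x1 * j⁻¹) = x0 * x1 := by
            rw [hzv, ← hjz, ← hzv]; group
          have h2 : x0⁻¹ * (j * x0 * j⁻¹) = x1 * (j * x1 * j⁻¹)⁻¹ := by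
            calc x0⁻¹ * (j * x0 * j⁻¹)
                = x0⁻¹ * ((j * x0 * j⁻¹) * (j * x1 * j⁻¹)) * (j * x1 * j⁻¹)⁻¹ := by group
              _ = x1 * (j * x1 * j⁻¹)⁻¹ := by rw [h1]; group
          have h3 : x0⁻¹ * (j * x0 * j⁻¹) ∈ bQ p E :=
            mul_mem (inv_mem hx0) ((mem_normalizer_iff.mp hjQE x0).mp hx0)
          have h4 : x0⁻¹ * (j * x0 * j⁻¹) ∈ bQ p E1 :=
            h2 ▸ mul_mem hx1 (inv_mem ((mem_normalizer_iff.mp hjQ1 x1).mp hx1))
          have := hinter _ h3 h4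
          rwa [hz, Subgroup.mem_bot] at this
        have h0 : x0 = 1 := hjfix E hE hsE hQW h01 hle x0 hx0
          (mul_inv_eq_iff_eq_mul.mp (inv_mul_eq_one.mp hsplit).symm)
        rw [h0, one_mul] at hzv
        have h1 : x1 = 1 := hjfix E1 hE1b hsE1 hQW1 h10 hle1 x1 hx1
          (mul_inv_eq_iff_eq_mul.mp (by rw [hzv, hjz]))
        rw [h1] at hzv
        refine Prod.ext (Subtype.ext (inv_mul_eq_one.mp h0).symm)
          (Prod.ext (Subtype.ext (mul_inv_eq_one.mp h1)) (Subtype.ext (mul_inv_eq_one.mp hzv.symm).symm))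
      have hzF : Nat.card (bZ p F) = 3 := by
        obtain ⟨-, -, -, hEC, -⟩ := hF.exceptional hFW
        rcases hsF with ⟨h2, -⟩ | ⟨-, -, -, h | ⟨-, h3⟩⟩
        · omega
        · exact absurd h hFW
        · rw [← hEC]; exact h3
      have hsurj : Function.Surjective m := (Nat.bijective_iff_injective_and_card m).mpr
        ⟨hinj, by rw [Nat.card_prod, Nat.card_prod, hcard1, h9, hzF, h243']⟩ |>.2
      have hab : ⁅bQ p F, bQ p F⁆ = ⊥ := by
        rw [commutator_eq_bot_iff_le_centralizer]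
        intro y hy
        rw [mem_centralizer_iff]
        intro x hx
        obtain ⟨⟨a, b, c⟩, hm⟩ := hsurj ⟨x, hx⟩
        obtain ⟨⟨a', b', c'⟩, hm'⟩ := hsurj ⟨y, hy⟩
        rw [← show (a : G) * b * c = x from congrArg Subtype.val hm,
          ← show (a' : G) * b' * c' = y from congrArg Subtype.val hm']
        have cEE : ∀ u ∈ bQ p E, ∀ v ∈ bQ p E, u * v = v * u :=
          fun u hu v hv => commute_bW (hQW ▸ hv) hu
        have c11 : ∀ u ∈ bQ p E1, ∀ v ∈ bQ p E1, u * v = v * u :=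
          fun u hu v hv => commute_bW (hQW1 ▸ hv) hu
        have c01 : ∀ u ∈ bQ p E, ∀ v ∈ bQ p E1, u * v = v * u :=
          fun u hu v hv => commutes_of h01 (hQE hu) (hQ1 hv)
        have ha : Commute (a : G) ((a' : G) * b' * c') := ((Commute.mul_right (cEE _ a.2 _ a'.2)
          (c01 _ a.2 _ b'.2)).mul_right (hcz _ c'.2 _ (hle a.2)))
        have hb : Commute (b : G) ((a' : G) * b' * c') := ((Commute.mul_right (c01 _ a'.2 _ b.2).symm
          (c11 _ b.2 _ b'.2)).mul_right (hcz _ c'.2 _ (hle1 b.2)))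
        have hc : Commute (c : G) ((a' : G) * b' * c') := (hcz _ c.2 _
          (mul_mem (mul_mem (hle a'.2) (hle1 b'.2)) (bW_le F c'.2.1))).symm
        exact ((ha.mul_left hb).mul_left hc)
      rw [hder] at hab
      rw [hab, card_bot] at hzF
      omega
  · have h243' : Nat.card (bQ p F) = 243 := by
      rcases card_bQ hF hsF with ⟨h2, -⟩ | ⟨-, -, h⟩ | ⟨-, -, h⟩
      · omega
      · have := Subgroup.card_le_of_le hle
        omega
      · exact h
    have h0 : bQ p E = bQ p F := eq_of_le_of_card_ge hle (by rw [h243, h243'])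
    have h1 : bQ p E1 = bQ p F := eq_of_le_of_card_ge hle1 (by rw [hcard1, h243, h243'])
    have hb : bQ p E ≤ bZ p E := fun x hx => hinter x hx (h1.ge (h0.le hx))
    exact hQW (le_antisymm (hb.trans inf_le_left) (bW_le E))

end Cfsg.Agent.Lib.BTBlock.Sub
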