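import Cfsg.Agent.Lib.BTBlock.Sub.Dichotomy
import Cfsg.Agent.Lib.Coprime.Basic
import Cfsg.Agent.Lib.Coprime.Quotient

/-!
# Small blocks: orders, fixed points
-/

set_option autoImplicit false

namespace Cfsg.Agent.Lib.BTBlock.Sub

open Subgroup Cfsg
open scoped commutatorElement

universe u

variable {G : Type u} [Group G] [Finite G] {p : ℕ} [Fact p.Prime] {E F : Subgroup G}

theorem IsSmallBlock.coprime_card (hs : IsSmallBlock p E) :
    (Nat.card (↥E ⧸ pCore p ↥E)).Coprime p := by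
  rcases hs with ⟨rfl, hc, -⟩ | ⟨rfl, ⟨hc, -⟩, -⟩ <;> rw [hc] <;> norm_num

theorem IsSmallBlock.coprime_orderOf_iff (hs : IsSmallBlock p E) {x : G} (hx : x ∈ E)
    (hxo : (orderOf x).Coprime p) : orderOf x = orderOf (QuotientGroup.mk' (pCore p ↥E) ⟨x, hx⟩) := by
  refine Nat.dvd_antisymm (orderOf_dvd_of_pow_eq_one ?_) ((orderOf_map_dvd _ _).trans
    (by rw [orderOf_mk]))
  set k := orderOf (QuotientGroup.mk' (pCore p ↥E) ⟨x, hx⟩)
  have hQ : x ^ k ∈ bQ p E := (mem_bQ_iff (pow_mem hx k)).mpr (by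
    have := pow_orderOf_eq_one (QuotientGroup.mk' (pCore p ↥E) ⟨x, hx⟩)
    rw [← map_pow] at this
    exact this)
  obtain ⟨a, ha⟩ := IsPGroup.iff_orderOf.mp (isPGroup_bQ E) ⟨_, hQ⟩
  rw [orderOf_mk] at ha
  rw [← orderOf_eq_one_iff, ha]
  exact Nat.eq_one_of_dvd_coprimes (hxo.pow_right a) (ha ▸ orderOf_pow_dvd k) dvd_rfl

/-- A complement to `O_p` in a small block. -/
theorem IsSmallBlock.exists_complement (hs : IsSmallBlock p E) :
    ∃ A : Subgroup G, A ≤ E ∧ Nat.card A = Nat.card (↥E ⧸ pCore p ↥E) ∧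
      A ⊔ bQ p E = E ∧ A ⊓ bQ p E = ⊥ ∧ (Nat.card A).Coprime (Nat.card (bQ p E)) ∧
      ∀ e ∈ E, ∃ a ∈ A, a⁻¹ * e ∈ bQ p E := by
  have hcop : (Nat.card (pCore p ↥E)).Coprime (pCore p ↥E).index := by
    obtain ⟨k, hk⟩ := IsPGroup.iff_card.mp (PSolvable.pCore_isPGroup (p := p) (G := ↥E))
    rw [hk, index_eq_card]
    exact Nat.Coprime.pow_left k hs.coprime_card.symm
  obtain ⟨A₀, hA⟩ := exists_left_complement'_of_coprime hcop
  have hcard : Nat.card ↥(A₀.map E.subtype) = Nat.card (↥E ⧸ pCore p ↥E) := by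
    rw [Subgroup.card_map_of_injective E.subtype_injective, ← index_eq_card, hA.index_eq_card]
  have hcop' : (Nat.card ↥(A₀.map E.subtype)).Coprime (Nat.card (bQ p E)) := by
    obtain ⟨k, hk⟩ := IsPGroup.iff_card.mp (isPGroup_bQ (p := p) E)
    rw [hcard, hk]
    exact hs.coprime_card.pow_right k
  refine ⟨A₀.map E.subtype, map_subtype_le _, hcard, ?_,
    inf_eq_bot_of_coprime hcop', hcop', fun e he => ?_⟩
  · rw [bQ, pCoreOf, ← Subgroup.map_sup, hA.sup_eq_top, ← MonoidHom.range_eq_map, range_subtype]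
  · obtain ⟨⟨a, q⟩, haq⟩ := hA.2 (⟨e, he⟩ : E)
    refine ⟨(a : E), ⟨_, a.2, rfl⟩, q, q.2, ?_⟩
    have h1 := congrArg Subtype.val haq
    simp only [Subgroup.coe_mul] at h1
    rw [← h1]
    simp

/-- A block with abelian `O_p` and small quotient has no fixed points. -/
theorem bZ_eq_bot (hE : IsBlock p E) (hs : IsSmallBlock p E) (hQW : bQ p E = bW p E) :
    bZ p E = ⊥ := by
  obtain ⟨A, hAE, -, hsup, -, hcop, hrep⟩ := hs.exists_complement
  haveI : IsMulCommutative (bQ p E) :=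
    ⟨⟨fun a b => Subtype.ext (commute_bW (hQW ▸ b.2) a.2)⟩⟩
  have hAV : A ≤ normalizer (bQ p E : Set G) := hAE.trans (bQ_normal E)
  have hle : ⁅bQ p E, E⁆ ≤ ⁅bQ p E, A⁆ := by
    rw [commutator_le]
    intro q hq e he
    obtain ⟨a, ha, hr⟩ := hrep e he
    have h1 : q * a * q⁻¹ * a⁻¹ ∈ ⁅bQ p E, A⁆ := commutator_mem_commutator hq ha
    have h2 : q * (a⁻¹ * e) * q⁻¹ = a⁻¹ * e := by
      rw [commute_bW (hQW ▸ hr) hq, mul_inv_cancel_right]
    convert h1 using 1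
    calc ⁅q, e⁆ = q * a * q⁻¹ * (q * (a⁻¹ * e) * q⁻¹) * e⁻¹ := by
          rw [commutatorElement_def]; group
      _ = q * a * q⁻¹ * a⁻¹ := by rw [h2]; group
  rw [eq_bot_iff, ← Coprime.inf_centralizer_inf_commutator_eq_bot hAV hcop]
  intro z hz
  exact ⟨⟨bW_le E hz.1, centralizer_le hAE hz.2⟩, hle (hE.commutator_core.ge (bW_le E hz.1))⟩

theorem bZ_le (E : Subgroup G) : bZ p E ≤ bW p E := inf_le_left

theorem card_eq_relIndex_mul {H K : Subgroup G} (h : H ≤ K) :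
    Nat.card K = Nat.card H * H.relIndex K := by
  rw [← relIndex_bot_left, ← relIndex_bot_left, relIndex_mul_relIndex _ _ _ bot_le h]

/-- The possible orders of `O_p` of a small block. -/
theorem card_bQ (hE : IsBlock p E) (hs : IsSmallBlock p E) :
    (p = 2 ∧ Nat.card (bQ p E) = 4) ∨
      (p = 3 ∧ bQ p E = bW p E ∧ Nat.card (bQ p E) = 9) ∨
      (p = 3 ∧ bQ p E ≠ bW p E ∧ Nat.card (bQ p E) = 243) := by
  rcases hs with ⟨hp, hc, hQW, hW⟩ | ⟨hp, h8, hW, hQ⟩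
  · have hz := bZ_eq_bot hE (Or.inl ⟨hp, hc, hQW, hW⟩) hQW
    refine Or.inl ⟨hp, ?_⟩
    rw [hQW, card_eq_relIndex_mul (bZ_le (p := p) E), hW, hz, card_bot]
  · by_cases hQW : bQ p E = bW p E
    · have hz := bZ_eq_bot hE (Or.inr ⟨hp, h8, hW, hQ⟩) hQW
      refine Or.inr (Or.inl ⟨hp, hQW, ?_⟩)
      rw [hQW, card_eq_relIndex_mul (bZ_le (p := p) E), hW, hz, card_bot]
    · obtain ⟨hQi, hcent⟩ := hQ.resolve_left hQW
      obtain ⟨-, -, -, hEC, -⟩ := hE.exceptional hQW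
      refine Or.inr (Or.inr ⟨hp, hQW, ?_⟩)
      rw [card_eq_relIndex_mul (bW_le E), hQi,
        card_eq_relIndex_mul (bZ_le (p := p) E), hW, ← hEC, hcent]

theorem IsBlock.mem_bZ_of_centralizes (hE : IsBlock p E) {x : G} (hx : x ∈ bQ p E)
    (hc : x ∈ centralizer (E : Set G)) : x ∈ bZ p E := by
  by_cases hQW : bQ p E = bW p E
  · exact ⟨hQW ▸ hx, hc⟩
  · obtain ⟨-, -, -, hEC, -⟩ := hE.exceptional hQW
    exact hEC ▸ ⟨Amalgam.pCoreOf_le p E hx, hc⟩

omit [Fact p.Prime] [Finite G] in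
theorem bQ_conj (E : Subgroup G) (g : G) :
    bQ p (E.map (MulAut.conj g).toMonoidHom) = (bQ p E).map (MulAut.conj g).toMonoidHom :=
  Amalgam.pCoreOf_map E (MulAut.conj g).injective

omit [Fact p.Prime] [Finite G] in
theorem bW_conj (E : Subgroup G) (g : G) :
    bW p (E.map (MulAut.conj g).toMonoidHom) = (bW p E).map (MulAut.conj g).toMonoidHom := by
  rw [bW, Amalgam.pCoreOf_map E (MulAut.conj g).injective, omegaOneCenter_map]

omit [Fact p.Prime] [Finite G] in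
theorem bZ_conj (E : Subgroup G) (g : G) :
    bZ p (E.map (MulAut.conj g).toMonoidHom) = (bZ p E).map (MulAut.conj g).toMonoidHom := by
  rw [bZ, bW_conj, ← Amalgam.inf_centralizer_map _ _ (MulAut.conj g).injective]

/-- Elements moving `O_p(G)` only inside `Q`. -/
def moveSub (p : ℕ) [Fact p.Prime] (Q : Subgroup G) : Subgroup G where
  carrier := {g | g ∈ normalizer (Q : Set G) ∧ ∀ u ∈ pCore p G, u⁻¹ * (g * u * g⁻¹) ∈ Q}
  one_mem' := ⟨one_mem _, fun u _ => by simp [Q.one_mem]⟩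
  mul_mem' := fun {a b} ha hb => ⟨mul_mem ha.1 hb.1, fun u hu => by
    have hbu : b * u * b⁻¹ ∈ pCore p G := (inferInstance : (pCore p G).Normal).conj_mem u hu b
    have h1 := Q.mul_mem (hb.2 u hu) (ha.2 _ hbu)
    convert h1 using 1
    group⟩
  inv_mem' := fun {a} ha => ⟨inv_mem ha.1, fun u hu => by
    have hau : a⁻¹ * u * a⁻¹⁻¹ ∈ pCore p G := (inferInstance : (pCore p G).Normal).conj_mem u hu a⁻¹
    have h1 := Q.inv_mem (ha.2 _ hau)
    convert h1 using 1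
    group⟩

theorem IsBlock.le_moveSub (hE : IsBlock p E) : E ≤ moveSub p (bQ p E) := fun e he =>
  ⟨bQ_normal E he, fun u hu => by
    have h := (hE.commutator_mem_bQ he (inv_mem hu)).2
    convert h using 1
    rw [commutatorElement_def]; group⟩

/-- An element which is a `q`-element modulo `O_p(G)`, `q ≠ p`, centralises `Q` and moves `O_p(G)`
only inside `Q`, lies in `O_p(G)`. -/
theorem mem_pCore_of_trivial (hG : centralizer (pCore p G : Set G) ≤ pCore p G) {q : ℕ}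
    (hq : q.Coprime p) {Q : Subgroup G} (hQ : IsPGroup p Q) {g : G} (hg : g ∈ moveSub p Q)
    (hfix : ∀ k : ℕ, (orderOf (g ^ k)).Coprime p → ∀ x ∈ Q, g ^ k * x * (g ^ k)⁻¹ = x)
    (hπ : ∃ n : ℕ, g ^ q ^ n ∈ pCore p G) : g ∈ pCore p G := by
  obtain ⟨k, hk⟩ := exists_coprime_pow p g
  have h1 : g ^ p ^ k = 1 := eq_one_of_centralizes hG hQ hk (hfix _ hk) (pow_mem hg (p ^ k)).2
  obtain ⟨n, hn⟩ := hπ
  set x := QuotientGroup.mk' (pCore p G) g
  have hx1 : x ^ p ^ k = 1 := by rw [← map_pow, h1, map_one]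
  have hx2 : x ^ q ^ n = 1 := by
    rw [← map_pow, QuotientGroup.mk'_apply, QuotientGroup.eq_one_iff]; exact hn
  have hx : x = 1 := orderOf_eq_one_iff.mp (Nat.eq_one_of_dvd_coprimes
    ((hq.symm.pow_left k).pow_right n) (orderOf_dvd_of_pow_eq_one hx1) (orderOf_dvd_of_pow_eq_one hx2))
  exact (QuotientGroup.eq_one_iff g).mp hx

/-- Elements in a subnormal subgroup whose image is a `q`-group. -/
theorem exists_pow_mem_pCore {q : ℕ} {x : G}
    (hx : QuotientGroup.mk' (pCore p G) x ∈ pCore q (G ⧸ pCore p G)) :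
    ∃ n : ℕ, x ^ q ^ n ∈ pCore p G := by
  obtain ⟨n, hn⟩ := PSolvable.pCore_isPGroup (p := q) ⟨_, hx⟩
  refine ⟨n, ?_⟩
  have := congrArg Subtype.val hn
  rw [SubgroupClass.coe_pow, OneMemClass.coe_one, ← map_pow] at this
  exact (QuotientGroup.eq_one_iff _).mp this

theorem image_le_pCore_two (hEs : E.IsSubnormal) (h8 : IsQEight (↥E ⧸ pCore p ↥E)) :
    E.map (QuotientGroup.mk' (pCore p G)) ≤ pCore 2 (G ⧸ pCore p G) := by
  obtain ⟨e⟩ := nonempty_image_equiv (p := p) hEs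
  refine CharTwo.subnormal_le_pCore (hEs.map (QuotientGroup.mk'_surjective _))
    (IsPGroup.of_card (n := 3) ?_)
  rw [Nat.card_congr e.toEquiv, h8.1]
  norm_num

/-- An element acting trivially on `Q / W` fixes `Z = ⁅Q, Q⁆`. -/
theorem fix_bZ_of_trivOn (hE : IsBlock p E) (hQW : bQ p E ≠ bW p E) {j : G}
    (hjQ : TrivOn (bQ p E) (bW p E) j) : ∀ z ∈ bZ p E, j * z * j⁻¹ = z := by
  obtain ⟨-, -, hder, -, -⟩ := hE.exceptional hQW
  intro z hz
  rw [← hder, Subgroup.commutator_def] at hz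
  induction hz using closure_induction with
  | mem y hy =>
    obtain ⟨a, ha, b, hb, rfl⟩ := hy
    have hwa := hjQ a ha
    have hwb := hjQ b hb
    set wa := j * a * j⁻¹ * a⁻¹
    set wb := j * b * j⁻¹ * b⁻¹
    have c2 : ∀ q ∈ bQ p E, q * wb = wb * q := fun q hq => commute_bW hwb hq
    calc j * ⁅a, b⁆ * j⁻¹ = ⁅wa * a, wb * b⁆ := by
          simp only [wa, wb, commutatorElement_def]; group
      _ = wa * (a * wb) * (b * a⁻¹) * (wa⁻¹ * b⁻¹) * wb⁻¹ := by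
          simp only [commutatorElement_def]; group
      _ = wa * wb * (a * (b * a⁻¹)) * (wa⁻¹ * b⁻¹) * wb⁻¹ := by rw [c2 a ha]; group
      _ = wa * wb * ((a * (b * a⁻¹)) * wa⁻¹) * b⁻¹ * wb⁻¹ := by group
      _ = wa * wb * (wa⁻¹ * (a * (b * a⁻¹))) * b⁻¹ * wb⁻¹ := by
          rw [commute_bW (inv_mem hwa) (mul_mem ha (mul_mem hb (inv_mem ha)))]
      _ = (wa * wb * wa⁻¹) * ((a * b * a⁻¹ * b⁻¹) * wb⁻¹) := by group
      _ = wb * (wb⁻¹ * (a * b * a⁻¹ * b⁻¹)) := by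
          rw [show wa * wb = wb * wa from c2 wa (bW_le E hwa), mul_inv_cancel_right,
            commute_bW (inv_mem hwb) (mul_mem (mul_mem (mul_mem ha hb) (inv_mem ha)) (inv_mem hb))]
      _ = ⁅a, b⁆ := by rw [commutatorElement_def]; group
  | one => simp
  | mul a b _ _ ha hb =>
    calc j * (a * b) * j⁻¹ = (j * a * j⁻¹) * (j * b * j⁻¹) := by group
      _ = a * b := by rw [ha, hb]
  | inv a _ ha =>
    calc j * a⁻¹ * j⁻¹ = (j * a * j⁻¹)⁻¹ := by group
      _ = a⁻¹ := by rw [ha]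

/-- A `p'`-element trivial on the sections of `O_p` of a small block centralises it. -/
theorem fix_of_trivOn (hE : IsBlock p E) (hs : IsSmallBlock p E) {j : G}
    (hjo : (orderOf j).Coprime p) (hW : TrivOn (bW p E) (bZ p E) j)
    (hQ : bQ p E ≠ bW p E → TrivOn (bQ p E) (bW p E) j) : ∀ q ∈ bQ p E, j * q * j⁻¹ = q := by
  by_cases hQW : bQ p E = bW p E
  · intro q hq
    have h := hW q (hQW ▸ hq)
    rw [bZ_eq_bot hE hs hQW, Subgroup.mem_bot, mul_inv_eq_one] at h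
    exact h
  · have hjQ := hQ hQW
    have hjW : ∀ w ∈ bW p E, j * w * j⁻¹ = w := fun w hw => by
      have hz := hW w hw
      refine fix_of_step (isPGroup_bQ E) hjo (r := j * w * j⁻¹ * w⁻¹) ?_
        (fix_bZ_of_trivOn hE hQW hjQ _ hz) (bW_le E hz.1)
      rw [commute_bW hz.1 (bW_le E hw)]
      group
    intro q hq
    have hw := hjQ q hq
    refine fix_of_step (isPGroup_bQ E) hjo (r := j * q * j⁻¹ * q⁻¹) ?_ (hjW _ hw) (bW_le E hw)
    rw [commute_bW hw hq]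
    group

/-- Conjugation moves an involution of the quotient of a small block inside its coset. -/
theorem IsSmallBlock.invol_unique (hs : IsSmallBlock p E) (hp : p = 3) {x y : G} (hx : x ∈ E)
    (hy : y ∈ E) (hx2 : x * x ∈ bQ p E) (hy2 : y * y ∈ bQ p E) (hxQ : x ∉ bQ p E)
    (hyQ : y ∉ bQ p E) : x⁻¹ * y ∈ bQ p E := by
  rcases hs with ⟨h2, -⟩ | ⟨-, h8, -, -⟩
  · omega
  rw [mem_bQ_iff hx] at hxQ
  rw [mem_bQ_iff hy] at hyQ
  rw [mem_bQ_iff (E.mul_mem hx hx)] at hx2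
  rw [mem_bQ_iff (E.mul_mem hy hy)] at hy2
  rw [mem_bQ_iff (E.mul_mem (E.inv_mem hx) hy)]
  have h := h8.2.2.1 (QuotientGroup.mk' (pCore p ↥E) ⟨x, hx⟩) (QuotientGroup.mk' (pCore p ↥E) ⟨y, hy⟩)
    (by rw [← map_mul]; exact hx2) (by rw [← map_mul]; exact hy2) hxQ hyQ
  rw [show (⟨x⁻¹ * y, E.mul_mem (E.inv_mem hx) hy⟩ : E) = ⟨x, hx⟩⁻¹ * ⟨y, hy⟩ from rfl, map_mul,
    map_inv, h, inv_mul_cancel]

/-- An involution modulo `O_p` of a small block fixes only `Z` on the sections. -/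
theorem IsSmallBlock.involution_fixed (hs : IsSmallBlock p E) (hE : IsBlock p E) (hp : p = 3)
    {j : G} (hj : j ∈ E) (hj2 : j * j ∈ bQ p E) (hjQ : j ∉ bQ p E) :
    (∀ w ∈ bW p E, ⁅j, w⁆ ∈ bZ p E → w ∈ bZ p E) ∧
      (bQ p E ≠ bW p E → ∀ x ∈ bQ p E, ⁅j, x⁆ ∈ bW p E → x ∈ bW p E) := by
  obtain ⟨hQ, hW, hZ⟩ := le_normalizer_section (p := p) E (le_normalizer (H := E))
  have hJ : ∀ U V : Subgroup G, (∀ q ∈ bQ p E, TrivOn U V q) → ∀ y ∈ E, ∀ i ∈ ({j} : Set G),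
      ∃ i' ∈ ({j} : Set G), TrivOn U V (i'⁻¹ * (y * i * y⁻¹)) := by
    intro U V hUV y hy i hi
    refine ⟨j, rfl, hUV _ ?_⟩
    rw [Set.mem_singleton_iff] at hi
    rw [hi]
    refine hs.invol_unique hp hj (E.mul_mem (E.mul_mem hy hj) (E.inv_mem hy)) hj2 ?_ hjQ ?_
    · have := (mem_normalizer_iff.mp (bQ_normal E hy) _).mp hj2
      convert this using 1
      group
    · exact fun h => hjQ ((mem_normalizer_iff.mp (bQ_normal E hy) _).mpr h)
  refine ⟨fun w hw hf => ?_, fun hQW x hx hf => ?_⟩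
  · obtain ⟨hirr, hfaith, -⟩ := hE.section_W
    exact mem_of_fixed hW hZ (commutator_bW_le E) inf_le_left hirr (by simpa using hj)
      (hJ _ _ fun q hq => trivOn_of_mem_bQ E hq) ⟨j, rfl, fun h => hjQ (hfaith j hj h)⟩ hw
      (by simpa using hf)
  · obtain ⟨-, ⟨hirr', hfaith', -⟩, hder, -, -⟩ := hE.exceptional hQW
    exact mem_of_fixed hQ hW (hder.le.trans inf_le_left) (bW_le E) hirr' (by simpa using hj)
      (hJ _ _ fun q hq w hw => (hder.le (commutator_mem_commutator hq hw)).1)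
      ⟨j, rfl, fun h => hjQ (hfaith' j hj h)⟩ hx (by simpa using hf)

/-- Elements of `O_p` of a small block fixed by an involution lie in `Z`. -/
theorem IsSmallBlock.mem_bZ_of_involution (hs : IsSmallBlock p E) (hE : IsBlock p E) (hp : p = 3)
    {j : G} (hj : j ∈ E) (hj2 : j * j ∈ bQ p E) (hjQ : j ∉ bQ p E) {x : G} (hx : x ∈ bQ p E)
    (hfix : j * x = x * j) : x ∈ bZ p E := by
  obtain ⟨h1, h2⟩ := hs.involution_fixed hE hp hj hj2 hjQ
  have hc : ∀ V : Subgroup G, ⁅j, x⁆ ∈ V := fun V => by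
    rw [commutatorElement_eq_one_iff_mul_comm.mpr hfix]; exact one_mem _
  by_cases hQW : bQ p E = bW p E
  · exact h1 x (hQW ▸ hx) (hc _)
  · exact h1 x (h2 hQW x hx (hc _)) (hc _)

end Cfsg.Agent.Lib.BTBlock.Sub
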