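import Cfsg.Agent.Lib.BTBlock.CharacteristicP

/-!
# Blocks under automorphisms
-/

set_option autoImplicit false

namespace Cfsg.Agent.Lib.BTBlock.Sub

open Subgroup Cfsg
open scoped commutatorElement

universe u

variable {G : Type u} [Group G] {p : ℕ}

theorem pResidualOf_map (e : G ≃* G) (E : Subgroup G) :
    pResidualOf p (E.map e.toMonoidHom) = (pResidualOf p E).map e.toMonoidHom := by
  rw [pResidualOf_eq_closure, pResidualOf_eq_closure, MonoidHom.map_closure]
  congr 1
  ext y
  constructor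
  · rintro ⟨⟨x, hx, rfl⟩, ho⟩
    exact ⟨x, ⟨hx, by rwa [MulEquiv.coe_toMonoidHom, MulEquiv.orderOf_eq] at ho⟩, rfl⟩
  · rintro ⟨x, ⟨hx, ho⟩, rfl⟩
    exact ⟨⟨x, hx, rfl⟩, by rwa [MulEquiv.coe_toMonoidHom, MulEquiv.orderOf_eq]⟩

theorem omegaOneCenter_map (e : G ≃* G) (X : Subgroup G) :
    omegaOneCenter p (X.map e.toMonoidHom) = (omegaOneCenter p X).map e.toMonoidHom := by
  rw [omegaOneCenter, omegaOneCenter, ← Amalgam.inf_centralizer_map _ _ e.injective,
    Amalgam.omegaOne_map' _ e.injective]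

theorem frattini_map_mulEquiv {H K : Type*} [Group H] [Group K] (e : H ≃* K) :
    (frattini H).map e.toMonoidHom = frattini K := by
  refine le_antisymm (map_le_iff_le_comap.mpr (frattini_le_comap_frattini_of_surjective e.surjective)) ?_
  intro x hx
  refine ⟨e.symm x, ?_, e.apply_symm_apply x⟩
  exact frattini_le_comap_frattini_of_surjective (φ := e.symm.toMonoidHom) e.symm.surjective hx

theorem frattini_map_subgroup (e : G ≃* G) (Q : Subgroup G) :
    (frattini ↥(Q.map e.toMonoidHom)).map (Q.map e.toMonoidHom).subtype =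
      ((frattini ↥Q).map Q.subtype).map e.toMonoidHom := by
  rw [← frattini_map_mulEquiv (Q.equivMapOfInjective e.toMonoidHom e.injective), Subgroup.map_map,
    Subgroup.map_map]
  rfl

theorem actsAsSL2_map (e : G ≃* G) {F : Type*} [Field F]
    {R : Subgroup (Matrix.SpecialLinearGroup (Fin 2) F)} {E U U₀ : Subgroup G}
    (h : ActsAsSL2OnSection F R E U U₀) :
    ActsAsSL2OnSection F R (E.map e.toMonoidHom) (U.map e.toMonoidHom) (U₀.map e.toMonoidHom) := by
  obtain ⟨hn, hle, ρ, ψ, hr, hs, hk, he⟩ := h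
  have hi : Function.Injective e.toMonoidHom := e.injective
  refine ⟨(map_mono hn).trans (le_normalizer_map _), map_mono hle,
    ρ.comp (E.equivMapOfInjective _ hi).symm.toMonoidHom,
    ψ.comp (U.equivMapOfInjective _ hi).symm.toMonoidHom, ?_, ?_, fun u => ?_, fun a u => ?_⟩
  · rw [MonoidHom.range_comp,
      MonoidHom.range_eq_top.mpr (E.equivMapOfInjective _ hi).symm.surjective, ← hr,
      MonoidHom.range_eq_map]
  · exact hs.comp (U.equivMapOfInjective _ hi).symm.surjective
  · refine (hk _).trans ⟨fun h => ⟨_, h, ?_⟩, fun h => ?_⟩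
    · exact congrArg Subtype.val ((U.equivMapOfInjective _ hi).apply_symm_apply u)
    · obtain ⟨x, hx, hxe⟩ := h
      have hxu : (((U.equivMapOfInjective _ hi).symm u : U) : G) = x :=
        e.injective ((congrArg Subtype.val
          ((U.equivMapOfInjective _ hi).apply_symm_apply u)).trans hxe.symm)
      exact hxu.symm ▸ hx
  · obtain ⟨w, hw, hψ⟩ := he ((E.equivMapOfInjective _ hi).symm a) ((U.equivMapOfInjective _ hi).symm u)
    refine ⟨U.equivMapOfInjective _ hi w, ?_, ?_⟩
    · rw [coe_equivMapOfInjective_apply, hw]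
      have h1 := congrArg Subtype.val ((E.equivMapOfInjective _ hi).apply_symm_apply a)
      have h2 := congrArg Subtype.val ((U.equivMapOfInjective _ hi).apply_symm_apply u)
      simp only [coe_equivMapOfInjective_apply] at h1 h2
      rw [map_mul, map_mul, map_inv, h1, h2]
    · simp only [MonoidHom.comp_apply, MulEquiv.coe_toMonoidHom, MulEquiv.symm_apply_apply]
      exact hψ

theorem actsAsPerm_map (e : G ≃* G) {n : ℕ} {R : Subgroup (Equiv.Perm (Fin n))} {E U U₀ : Subgroup G}
    (h : ActsAsOddPermModuleOnSection n R E U U₀) :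
    ActsAsOddPermModuleOnSection n R (E.map e.toMonoidHom) (U.map e.toMonoidHom)
      (U₀.map e.toMonoidHom) := by
  obtain ⟨hn, hle, ρ, ψ, hr, hev, hs, hk, he⟩ := h
  have hi : Function.Injective e.toMonoidHom := e.injective
  refine ⟨(map_mono hn).trans (le_normalizer_map _), map_mono hle,
    ρ.comp (E.equivMapOfInjective _ hi).symm.toMonoidHom,
    ψ.comp (U.equivMapOfInjective _ hi).symm.toMonoidHom, ?_, fun u => hev _, fun v hv => ?_,
    fun u => ?_, fun a u => ?_⟩
  · rw [MonoidHom.range_comp,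
      MonoidHom.range_eq_top.mpr (E.equivMapOfInjective _ hi).symm.surjective, ← hr,
      MonoidHom.range_eq_map]
  · obtain ⟨u, hu⟩ := hs v hv
    exact ⟨U.equivMapOfInjective _ hi u, by
      simp only [MonoidHom.comp_apply, MulEquiv.coe_toMonoidHom, MulEquiv.symm_apply_apply]
      exact hu⟩
  · refine (hk _).trans ⟨fun h => ⟨_, h, ?_⟩, fun h => ?_⟩
    · exact congrArg Subtype.val ((U.equivMapOfInjective _ hi).apply_symm_apply u)
    · obtain ⟨x, hx, hxe⟩ := h
      have hxu : (((U.equivMapOfInjective _ hi).symm u : U) : G) = x :=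
        e.injective ((congrArg Subtype.val
          ((U.equivMapOfInjective _ hi).apply_symm_apply u)).trans hxe.symm)
      exact hxu.symm ▸ hx
  · obtain ⟨w, hw, hψ⟩ := he ((E.equivMapOfInjective _ hi).symm a) ((U.equivMapOfInjective _ hi).symm u)
    refine ⟨U.equivMapOfInjective _ hi w, ?_, fun i => ?_⟩
    · rw [coe_equivMapOfInjective_apply, hw]
      have h1 := congrArg Subtype.val ((E.equivMapOfInjective _ hi).apply_symm_apply a)
      have h2 := congrArg Subtype.val ((U.equivMapOfInjective _ hi).apply_symm_apply u)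
      simp only [coe_equivMapOfInjective_apply] at h1 h2
      rw [map_mul, map_mul, map_inv, h1, h2]
    · simp only [MonoidHom.comp_apply, MulEquiv.coe_toMonoidHom, MulEquiv.symm_apply_apply]
      exact hψ i

theorem quotient_map (e : G ≃* G) (E : Subgroup G) :
    Nonempty (↥(E.map e.toMonoidHom) ⧸ pCore p ↥(E.map e.toMonoidHom) ≃* ↥E ⧸ pCore p ↥E) :=
  ⟨(QuotientGroup.congr (pCore p ↥E) (pCore p ↥(E.map e.toMonoidHom))
    (E.equivMapOfInjective e.toMonoidHom e.injective) (Amalgam.pCore_map_mulEquiv _)).symm⟩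

/-- Blocks go to blocks under automorphisms. -/
theorem isBaumannBlock_map (e : G ≃* G) {T E : Subgroup G} (h : IsBaumannBlock p T E) :
    IsBaumannBlock p (T.map e.toMonoidHom) (E.map e.toMonoidHom) := by
  have hi : Function.Injective e.toMonoidHom := e.injective
  obtain ⟨h1, h2, h3, h4, h5⟩ := h
  have hQ : pCoreOf p (E.map e.toMonoidHom) = (pCoreOf p E).map e.toMonoidHom :=
    Amalgam.pCoreOf_map E hi
  have hW : omegaOneCenter p (pCoreOf p (E.map e.toMonoidHom)) =
      (omegaOneCenter p (pCoreOf p E)).map e.toMonoidHom := by rw [hQ, omegaOneCenter_map]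
  have hZ : omegaOneCenter p (pCoreOf p (E.map e.toMonoidHom)) ⊓
      centralizer ((E.map e.toMonoidHom : Subgroup G) : Set G) =
      (omegaOneCenter p (pCoreOf p E) ⊓ centralizer (E : Set G)).map e.toMonoidHom := by
    rw [hW, Amalgam.inf_centralizer_map _ _ hi]
  have hB : baumannSubgroupOf p (T.map e.toMonoidHom) =
      (baumannSubgroupOf p T).map e.toMonoidHom := baumann_map e T
  refine ⟨?_, ?_, ?_, ?_, ?_⟩
  · rw [pResidualOf_map, h1]
  · rw [hB, ← map_commutator, h2]
  · rw [hQ, ← map_commutator, h3]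
  · rw [omegaOneCenter_map, ← map_commutator]
    exact fun hc => h4 ((Subgroup.map_eq_bot_iff_of_injective _ hi).mp hc)
  obtain ⟨iq⟩ := quotient_map (p := p) e E
  rcases h5 with ⟨F, i1, i2, n, hc, ⟨iso⟩, hact, hex⟩ | ⟨hp, m, ⟨iso⟩, hact, hQW⟩
  · refine Or.inl ⟨F, i1, i2, n, hc, ⟨iq.trans iso⟩, ?_, ?_⟩
    · rw [hW, ← Amalgam.inf_centralizer_map _ _ hi]
      exact actsAsSL2_map e hact
    · rcases hex with hex | ⟨hp, a1, a2, a3, a4, a5, a6⟩
      · exact Or.inl (by rw [hW, hQ]; exact congrArg (Subgroup.map e.toMonoidHom) hex)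
      · have hEC : E.map e.toMonoidHom ⊓ centralizer ((E.map e.toMonoidHom : Subgroup G) : Set G) =
            (E ⊓ centralizer (E : Set G)).map e.toMonoidHom :=
          (Amalgam.inf_centralizer_map _ _ hi).symm
        refine Or.inr ⟨hp, ?_, ?_, ?_, ?_, ?_, ?_⟩
        · rw [hW, hQ]; exact actsAsSL2_map e a1
        · rw [hZ, hQ, ← map_commutator, a2]
        · rw [hZ, hQ, frattini_map_subgroup, a3]
        · rw [hEC, hZ, a4]
        · rw [hEC, Subgroup.card_map_of_injective hi]; exact a5
        · intro b hb hbC hle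
          rw [hB] at hb
          obtain ⟨b₀, hb₀, rfl⟩ := hb
          refine a6 b₀ hb₀ (fun hc => hbC ?_) ?_
          · rw [hW]
            rintro _ ⟨w, hw, rfl⟩
            rw [← map_mul, ← map_mul, hc w hw]
          · rw [hQ, hEC, ← MonoidHom.map_zpowers, ← map_commutator, ← map_commutator] at hle
            exact (map_le_map_iff_of_injective hi).mp hle
  · refine Or.inr ⟨hp, m, ⟨iq.trans iso⟩, ?_, ?_⟩
    · rw [hW, ← Amalgam.inf_centralizer_map _ _ hi]
      exact actsAsPerm_map e hact
    · rw [hW, hQ]; exact congrArg (Subgroup.map e.toMonoidHom) hQW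

theorem exists_block_conj [Finite G] [Fact p.Prime] {E : Subgroup G}
    (h : ∃ T : Sylow p G, IsBaumannBlock p (T : Subgroup G) E) (g : G) :
    ∃ T : Sylow p G, IsBaumannBlock p (T : Subgroup G) (E.map (MulAut.conj g).toMonoidHom) := by
  obtain ⟨T, hT⟩ := h
  exact ⟨g • T, isBaumannBlock_map (MulAut.conj g) hT⟩

end Cfsg.Agent.Lib.BTBlock.Sub
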